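import Mathlib
import Cfsg.Agent.Lib.Transfer.ThreeSizes.Basic
import Cfsg.Agent.Lib.Transfer.ThreeSizes.Split
import Cfsg.Agent.Lib.Block.CoprimeClassSizes
import Cfsg.Agent.Lib.Grp.Real

/-!
Class sizes `1`, `n`, `m`, `nm` with `n`, `m` coprime: a commuting pair of primary elements of class
sizes `n` and `m`, and the primes of `n` and `m`.
-/

set_option autoImplicit false
set_option maxHeartbeats 1000000

open scoped Pointwise

universe u

namespace Cfsg.Agent.Transfer.FourSizes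

open Cfsg Cfsg.Agent Cfsg.Agent.Transfer.ClassDisconnected Cfsg.Agent.Transfer.TwoRegular Subgroup

variable {G : Type u} [Group G]

theorem primary_coprime {p q i j : ℕ} {x z : G} (hp : p.Prime) (hq : q.Prime) (hne : p ≠ q)
    (hx : orderOf x = p ^ i) (hz : orderOf z = q ^ j) : (orderOf x).Coprime (orderOf z) := by
  rw [hx, hz]; exact Nat.Coprime.pow _ _ ((Nat.coprime_primes hp hq).2 hne)

/-- A primary element commutes with a conjugate of any element whose class size its prime does not divide. -/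
theorem exists_conj_commute [Finite G] {r k : ℕ} (hr : r.Prime) {t y : G} (ht : orderOf t = r ^ k)
    (hy : ¬ r ∣ cix y) : ∃ g : G, g * y * g⁻¹ ∈ cen t := by
  haveI := Fact.mk hr
  obtain ⟨P, hP⟩ := exists_sylow_le_centralizer hy
  obtain ⟨Q, hQ⟩ := (IsPGroup.of_card (n := k) (by rw [Nat.card_zpowers, ht]) :
    IsPGroup r (Subgroup.zpowers t)).exists_le_sylow
  obtain ⟨g, hg⟩ := MulAction.exists_smul_eq G P Q
  obtain ⟨t', ht', e⟩ := exists_of_mem_smul (g := g) (v := t) (P := P) (hg.symm ▸ hQ (Subgroup.mem_zpowers t))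
  refine ⟨g, cen_mem_comm ?_⟩
  rw [← e]
  exact (cen_conj_iff g y t').2 (hP ht')

/-- A `p`-element commutes with a normal `s`-subgroup each of whose elements centralizes a Sylow
`p`-subgroup, when all elements of other prime-power orders are central. -/
theorem commute_of_cover {K : Type*} [Group K] [Finite K] {p s : ℕ} [Fact p.Prime] [Fact s.Prime]
    (hoth : ∀ (g : K) (t k : ℕ), t.Prime → t ≠ p → t ≠ s → orderOf g = t ^ k → g ∈ Subgroup.center K)
    (S : Subgroup K) [S.Normal] (hSall : ∀ (g : K) (k : ℕ), orderOf g = s ^ k → g ∈ S)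
    (hcl : ∀ z ∈ S, ¬ p ∣ (Subgroup.centralizer ({z} : Set K)).index) {y : K} {k : ℕ} (hy : orderOf y = p ^ k)
    {z : K} (hz : z ∈ S) : y * z = z * y := by
  obtain ⟨P₁, hP₁⟩ := (IsPGroup.of_card (n := k) (by rw [Nat.card_zpowers, hy]) :
    IsPGroup p (Subgroup.zpowers y)).exists_le_sylow
  set N := (P₁ : Subgroup K) ⊔ Subgroup.center K with hN
  have htop : S ⊔ N = ⊤ := by
    rw [← Subgroup.index_eq_one, Nat.eq_one_iff_not_exists_prime_dvd]
    intro t ht hd
    haveI := Fact.mk ht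
    by_cases htp : t = p
    · subst htp
      exact P₁.not_dvd_index (hd.trans (Subgroup.index_dvd_of_le (le_sup_left.trans le_sup_right)))
    obtain ⟨T⟩ : Nonempty (Sylow t K) := inferInstance
    refine T.not_dvd_index (hd.trans (Subgroup.index_dvd_of_le fun a ha => ?_))
    obtain ⟨i, hi⟩ := (IsPGroup.iff_orderOf.1 T.isPGroup') ⟨a, ha⟩
    rw [Subgroup.orderOf_mk] at hi
    by_cases hts : t = s
    · exact Subgroup.mem_sup_left (hSall a i (hts ▸ hi))
    · exact Subgroup.mem_sup_right (Subgroup.mem_sup_right (hoth a t i ht htp hts hi))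
  have hnor : ∀ b ∈ N, ∀ w ∈ (P₁ : Subgroup K), b * w * b⁻¹ ∈ (P₁ : Subgroup K) := by
    intro b hb w hw
    have : N ≤ Subgroup.normalizer ((P₁ : Subgroup K) : Set K) :=
      sup_le Subgroup.le_normalizer ((Subgroup.center_le_centralizer _).trans (Subgroup.centralizer_le_normalizer _))
    exact (Subgroup.mem_normalizer_iff.1 (this hb) w).1 hw
  have hC : (Subgroup.centralizer ((P₁ : Subgroup K) : Set K)).subgroupOf S = ⊤ := by
    refine Grp.eq_top_of_conj_cover _ fun c => ?_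
    obtain ⟨P₂, hP₂⟩ := exists_sylow_le_centralizer (r := p) (u := (c : K)) (hcl c c.2)
    obtain ⟨h, hh⟩ := MulAction.exists_smul_eq K P₁ P₂
    obtain ⟨s₀, hs₀, b, hb, e⟩ := Subgroup.mem_sup_of_normal_left.1 (htop ▸ Subgroup.mem_top h : h ∈ S ⊔ N)
    refine ⟨⟨s₀, hs₀⟩⁻¹, Subgroup.mem_subgroupOf.2 (Subgroup.mem_centralizer_iff.2 fun w hw => ?_)⟩
    have hw' : b⁻¹ * w * b ∈ (P₁ : Subgroup K) := by
      simpa using hnor b⁻¹ (inv_mem hb) w hw
    have h2 : h * (b⁻¹ * w * b) * h⁻¹ ∈ cen (c : K) := by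
      refine hP₂ ?_
      rw [← hh]
      exact Subgroup.smul_mem_pointwise_smul _ (MulAut.conj h) _ hw'
    rw [← e] at h2
    have h3 : s₀ * w * s₀⁻¹ * (c : K) = (c : K) * (s₀ * w * s₀⁻¹) := by
      have := mem_cen.1 h2
      rwa [show s₀ * b * (b⁻¹ * w * b) * (s₀ * b)⁻¹ = s₀ * w * s₀⁻¹ by group] at this
    show w * (s₀⁻¹ * (c : K) * (s₀⁻¹)⁻¹) = (s₀⁻¹ * (c : K) * (s₀⁻¹)⁻¹) * w
    calc w * (s₀⁻¹ * (c : K) * (s₀⁻¹)⁻¹) = s₀⁻¹ * (s₀ * w * s₀⁻¹ * (c : K)) * s₀ := by group
      _ = s₀⁻¹ * ((c : K) * (s₀ * w * s₀⁻¹)) * s₀ := by rw [h3]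
      _ = _ := by group
  have hm := Subgroup.mem_subgroupOf.1 (hC ▸ Subgroup.mem_top (⟨z, hz⟩ : S) :
    (⟨z, hz⟩ : S) ∈ (Subgroup.centralizer ((P₁ : Subgroup K) : Set K)).subgroupOf S)
  exact Subgroup.mem_centralizer_iff.1 hm y (hP₁ (Subgroup.mem_zpowers y))

/-- The class size hypothesis. -/
structure Hyp4 (G : Type u) [Group G] (n m : ℕ) : Prop where
  n_lt : 1 < n
  m_lt : 1 < m
  cop : n.Coprime m
  size : ∀ x : G, cix x = 1 ∨ cix x = n ∨ cix x = m ∨ cix x = n * m
  ex_n : ∃ x : G, cix x = n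
  ex_m : ∃ x : G, cix x = m
  ex_nm : ∃ x : G, cix x = n * m

/-- Commuting primary elements of class sizes `n` and `m` for different primes. -/
def HasPair (G : Type u) [Group G] (n m : ℕ) : Prop :=
  ∃ (p q i j : ℕ) (x v : G), p.Prime ∧ q.Prime ∧ p ≠ q ∧ orderOf x = p ^ i ∧ orderOf v = q ^ j ∧
    cix x = n ∧ cix v = m ∧ v ∈ cen x

theorem HasPair.symm {n m : ℕ} (h : HasPair G m n) : HasPair G n m := by
  obtain ⟨p, q, i, j, x, v, hp, hq, hne, hx, hv, hxn, hvm, hc⟩ := h
  exact ⟨q, p, j, i, v, x, hq, hp, hne.symm, hv, hx, hvm, hxn, cen_mem_comm hc⟩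

namespace Hyp4

variable {n m : ℕ} (H : Hyp4 G n m)

include H in
theorem symm : Hyp4 G m n :=
  ⟨H.m_lt, H.n_lt, H.cop.symm, fun x => by
    rcases H.size x with h | h | h | h
    · exact Or.inl h
    · exact Or.inr (Or.inr (Or.inl h))
    · exact Or.inr (Or.inl h)
    · exact Or.inr (Or.inr (Or.inr (by rw [h, mul_comm]))),
    H.ex_m, H.ex_n, by simpa [mul_comm] using H.ex_nm⟩

variable [Finite G]

include H in
omit [Finite G] in
theorem not_dvd_m {s : ℕ} (hs : s.Prime) (hsn : s ∣ n) : ¬ s ∣ m := fun h =>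
  hs.ne_one (Nat.eq_one_of_dvd_coprimes H.cop hsn h)

include H in
theorem not_dvd : ¬ n ∣ m := fun h => by
  have := Nat.eq_one_of_dvd_coprimes H.cop dvd_rfl h
  have := H.n_lt; omega

include H in
theorem eq_n_of_dvd {x : G} (h : cix x ∣ n) (hx : x ∉ Subgroup.center G) : cix x = n := by
  rcases H.size x with e | e | e | e
  · exact absurd (cix_eq_one.1 e) hx
  · exact e
  · exact absurd (e ▸ h) H.symm.not_dvd
  · exact absurd ((e ▸ dvd_mul_left m n).trans h) H.symm.not_dvd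

include H in
theorem nc_of_n {x : G} (hx : cix x = n) : x ∉ Subgroup.center G := fun h => by
  have := H.n_lt; rw [cix_eq_one.2 h] at hx; omega

include H in
theorem nc_of_nm {x : G} (hx : cix x = n * m) : x ∉ Subgroup.center G := fun h => by
  rw [cix_eq_one.2 h] at hx; exact absurd (Nat.eq_one_of_mul_eq_one_right hx.symm) H.n_lt.ne'

include H in
theorem eq_nm_of_dvd {g : G} (h : n * m ∣ cix g) : cix g = n * m := by
  rcases H.size g with e | e | e | e <;> rw [e] at h ⊢
  · exact (Nat.dvd_one.1 h).symm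
  · exact absurd ((dvd_mul_left m n).trans h) H.symm.not_dvd
  · exact absurd ((dvd_mul_right n m).trans h) H.not_dvd

include H in
theorem exists_primary_n : ∃ (x : G) (p k : ℕ), p.Prime ∧ orderOf x = p ^ k ∧ cix x = n := by
  obtain ⟨x, hx⟩ := H.ex_n
  obtain ⟨i, p, k, hp, hxo, hxc⟩ := exists_primary_noncentral (H.nc_of_n hx)
  exact ⟨x ^ i, p, k, hp, hxo, H.eq_n_of_dvd (hx ▸ cix_pow_dvd x i) hxc⟩

include H in
theorem rel_size {x z : G} (hx : cix x = n) (hz : z ∈ cen x) (hco : (orderOf x).Coprime (orderOf z)) :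
    (cen z).relIndex (cen x) = 1 ∨ (cen z).relIndex (cen x) = m := by
  have h0 := ThreeSizes.cen_mul_eq (show Commute x z from (show Commute z x from mem_cen.1 hz).symm) hco
  have h1 : (cen z).relIndex (cen x) * n = cix (x * z) := by
    rw [← hx]
    show _ * (cen x).index = (cen (x * z)).index
    rw [h0, inf_comm, ← Subgroup.inf_relIndex_right, Subgroup.relIndex_mul_index inf_le_right]
  have hn : 0 < n := by have := H.n_lt; omega
  rcases H.size (x * z) with e | e | e | e <;> rw [e] at h1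
  · exact absurd (Nat.eq_one_of_mul_eq_one_left h1) H.n_lt.ne'
  · exact Or.inl (Nat.eq_of_mul_eq_mul_right hn (by rw [h1, one_mul]))
  · exact absurd (Dvd.intro_left _ h1) H.not_dvd
  · exact Or.inr (Nat.eq_of_mul_eq_mul_right hn (by rw [h1, mul_comm]))

include H in
theorem hypC {x : G} {p k : ℕ} (hp : p.Prime) (hxo : orderOf x = p ^ k) (hx : cix x = n) :
    TwoRegular.Hyp ↥(cen x) p m := by
  refine ⟨hp, H.m_lt, fun v hv => ?_⟩
  have h0 : Subgroup.centralizer ({v} : Set (cen x)) = (cen (v : G)).subgroupOf (cen x) := by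
    ext c
    rw [Subgroup.mem_subgroupOf, Subgroup.mem_centralizer_singleton_iff, mem_cen, Subtype.ext_iff]
    rfl
  show (Subgroup.centralizer ({v} : Set (cen x))).index = 1 ∨ _ = m
  rw [show cix v = (Subgroup.centralizer ({v} : Set (cen x))).index from rfl, h0]
  refine H.rel_size hx v.2 ?_
  rw [hxo, Subgroup.orderOf_coe]
  exact (hv.pow_right k).symm

include H in
theorem le_of_nm {z v : G} (hz : cix z = n * m) (hv : v ∈ cen z) (hco : (orderOf z).Coprime (orderOf v)) :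
    cen z ≤ cen v := by
  have hc : Commute z v := (show Commute v z from mem_cen.1 hv).symm
  have h0 := ThreeSizes.cen_mul_eq hc hco
  have hle : cen (z * v) ≤ cen z := h0 ▸ inf_le_left
  have hne : cix (z * v) = cix z := by
    rw [hz]; exact H.eq_nm_of_dvd (hz ▸ Subgroup.index_dvd_of_le hle)
  have h3 := Subgroup.relIndex_mul_index hle
  have h4 : cen z ≤ cen (z * v) := Subgroup.relIndex_eq_one.1 (Nat.eq_of_mul_eq_mul_right (cix_pos z)
    (by rw [show cix z = (cen z).index from rfl, one_mul]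
        show (cen (z * v)).relIndex (cen z) * (cen z).index = (cen z).index
        rw [h3]; exact hne))
  exact h4.trans (h0 ▸ inf_le_right)

variable (hno : ¬ HasPair G n m)

include H hno in
/-- Without a pair, a class size `n` element of prime `p ∣ n` forces every class size `m` primary element
to be a `p`-element. -/
theorem prime_eq {x y : G} {p q i j : ℕ} (hp : p.Prime) (hq : q.Prime) (hxo : orderOf x = p ^ i)
    (hyo : orderOf y = q ^ j) (hx : cix x = n) (hy : cix y = m) (hpn : p ∣ n) : q = p := by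
  by_contra hne
  obtain ⟨g, hg⟩ := exists_conj_commute hp hxo (y := y) (hy ▸ H.not_dvd_m hp hpn)
  exact hno ⟨p, q, i, j, x, g * y * g⁻¹, hp, hq, fun e => hne e.symm, hxo, by rw [orderOf_conj]; exact hyo,
    hx, by rw [Block.CoprimeClasses.cix_conj]; exact hy, hg⟩

include H in
theorem common_false {x y : G} {p i j : ℕ} (hp : p.Prime) (hxo : orderOf x = p ^ i)
    (hyo : orderOf y = p ^ j) (hx : cix x = n) (hy : cix y = m) (hpn : p ∣ n) : False := by
  classical
  haveI := Fact.mk hp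
  obtain ⟨g, hg⟩ := exists_conj_commute hp hxo (y := y) (hy ▸ H.not_dvd_m hp hpn)
  set w := g * y * g⁻¹ with hw
  have hwo : orderOf w = p ^ j := by rw [hw, orderOf_conj, hyo]
  have hwm : cix w = m := by rw [hw, Block.CoprimeClasses.cix_conj, hy]
  have HC := H.hypC hp hxo hx
  have key : ∀ s : ℕ, s.Prime → s ∣ m →
      ¬ ∀ (a : cen x) (l : ℕ), orderOf a = s ^ l → a * ⟨w, hg⟩ = ⟨w, hg⟩ * a := by
    intro s hs hsm hall
    haveI := Fact.mk hs
    obtain ⟨S, hS⟩ := exists_sylow_le_centralizer (r := s) (u := x) (hx ▸ H.symm.not_dvd_m hs hsm)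
    refine S.not_dvd_index ((show s ∣ cix w from hwm ▸ hsm).trans (Subgroup.index_dvd_of_le fun a ha => ?_))
    obtain ⟨l, hl⟩ := (IsPGroup.iff_orderOf.1 S.isPGroup') ⟨a, ha⟩
    rw [Subgroup.orderOf_mk] at hl
    exact mem_cen.2 (congrArg Subtype.val (hall ⟨a, hS ha⟩ l (by rw [Subgroup.orderOf_mk]; exact hl)))
  have hsp : ∀ s : ℕ, s.Prime → s ∣ m → s ≠ p := fun s _ hsm e => H.not_dvd_m hp hpn (e ▸ hsm)
  have hsig : ∀ s : ℕ, s.Prime → s ∣ m → Sig ↥(cen x) p s := by
    intro s hs hsm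
    by_contra hS
    refine key s hs hsm fun a l hl => ?_
    by_contra hne
    exact hS ⟨hs, hsp s hs hsm, a, fun hc => hne (Subgroup.mem_center_iff.1 hc _).symm, l, hl⟩
  obtain ⟨s, hs, hsm⟩ := Nat.exists_prime_and_dvd (n := m) (by have := H.m_lt; omega)
  have huniq : ∀ t : ℕ, Sig ↥(cen x) p t → t = s := by
    intro t ht
    by_contra hts
    exact hsp s hs hsm (HC.eq_p_of_dvd (fun l => by
      rcases eq_or_ne s l with rfl | hl
      · exact ⟨t, hts, ht⟩
      · exact ⟨s, hl, hsig s hs hsm⟩) hs hsm)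
  obtain ⟨e, he⟩ : ∃ e : ℕ, m = s ^ e :=
    ⟨_, Nat.eq_prime_pow_of_unique_prime_dvd (by have := H.m_lt; omega)
      fun {d} hd hdm => huniq d (hsig d hd hdm)⟩
  haveI := Fact.mk hs
  haveI : (Cfsg.pCore s ↥(cen x)).Normal := Grp.pCore_isNormal
  have hmem : ∀ (a : cen x) (l : ℕ), orderOf a = s ^ l → a ∈ Cfsg.pCore s ↥(cen x) := by
    intro a l hl
    rcases HC.size a (by rw [hl]; exact Nat.Coprime.pow_left _ ((Nat.coprime_primes hs hp).2 (hsp s hs hsm)))
      with h1 | h1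
    · exact ThreeSizes.mem_pCore_of_pow hl (a := 0) (by rw [h1, pow_zero])
    · exact ThreeSizes.mem_pCore_of_pow hl (a := e) (h1.trans he)
  refine key s hs hsm fun a l hl => (commute_of_cover (p := p) (s := s) ?_ (Cfsg.pCore s ↥(cen x)) hmem ?_
    (y := (⟨w, hg⟩ : cen x)) (k := j) (by rw [Subgroup.orderOf_mk]; exact hwo) (hmem a l hl)).symm
  · intro a' t l' ht htp hts hl'
    by_contra hc
    exact hts (huniq t ⟨ht, htp, a', hc, l', hl'⟩)
  · intro z hz
    obtain ⟨l', hl'⟩ := (IsPGroup.iff_orderOf.1 Grp.pCore_isPGroup) ⟨z, hz⟩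
    rw [Subgroup.orderOf_mk] at hl'
    rcases HC.size z (by rw [hl']; exact Nat.Coprime.pow_left _ ((Nat.coprime_primes hs hp).2 (hsp s hs hsm)))
      with h1 | h1 <;> intro hd
    · exact hp.not_dvd_one (h1 ▸ hd)
    · exact H.not_dvd_m hp hpn (h1 ▸ hd)

include H hno in
theorem primes_ne {x y : G} {p q i j : ℕ} (hp : p.Prime) (hxo : orderOf x = p ^ i) (hyo : orderOf y = q ^ j)
    (hx : cix x = n) (hy : cix y = m) : p ≠ q := by
  rintro rfl
  haveI := Fact.mk hp
  have hxc := H.nc_of_n hx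
  obtain ⟨P⟩ : Nonempty (Sylow p G) := inferInstance
  by_cases hpn : p ∣ n
  · exact H.common_false hp hxo hyo hx hy hpn
  by_cases hpm : p ∣ m
  · exact H.symm.common_false hp hyo hxo hy hx hpm
  -- every `p`-element is central
  have hcop : ∀ g : G, ¬ p ∣ cix g := by
    intro g hd
    rcases H.size g with e | e | e | e <;> rw [e] at hd
    · exact hp.not_dvd_one hd
    · exact hpn hd
    · exact hpm hd
    · exact ((Nat.Prime.dvd_mul hp).1 hd).elim hpn hpm
  have htop : Subgroup.centralizer ((P : Subgroup G) : Set G) = ⊤ := by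
    refine Grp.eq_top_of_conj_cover _ fun g => ?_
    obtain ⟨Q, hQ⟩ := exists_sylow_le_centralizer (r := p) (u := g) (hcop g)
    obtain ⟨h, hh⟩ := MulAction.exists_smul_eq G P Q
    refine ⟨h⁻¹, Subgroup.mem_centralizer_iff.2 fun w hw => ?_⟩
    have h2 : h * w * h⁻¹ ∈ cen g :=
      hQ (hh ▸ Subgroup.smul_mem_pointwise_smul w (MulAut.conj h) _ hw)
    calc w * (h⁻¹ * g * h⁻¹⁻¹) = h⁻¹ * ((h * w * h⁻¹) * g) * h := by group
      _ = h⁻¹ * (g * (h * w * h⁻¹)) * h := by rw [mem_cen.1 h2]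
      _ = _ := by group
  obtain ⟨Q, hQ⟩ := (IsPGroup.of_card (n := i) (by rw [Nat.card_zpowers, hxo]) :
    IsPGroup p (Subgroup.zpowers x)).exists_le_sylow
  obtain ⟨h, hh⟩ := MulAction.exists_smul_eq G P Q
  obtain ⟨x', hx', e⟩ := exists_of_mem_smul (g := h) (v := x) (P := P) (hh.symm ▸ hQ (Subgroup.mem_zpowers x))
  have hx'c : x' ∈ Subgroup.center G := Subgroup.mem_center_iff.2 fun g =>
    (Subgroup.mem_centralizer_iff.1 (htop ▸ Subgroup.mem_top g :
      g ∈ Subgroup.centralizer ((P : Subgroup G) : Set G)) x' hx').symm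
  exact hxc (e ▸ (conj_center_iff h x').2 hx'c)

include H hno in
theorem central_of_nm {g : G} (hg : cix g = n * m) {y : G} {q j : ℕ} (hq : q.Prime)
    (hyo : orderOf y = q ^ j) (hy : cix y = m) {t : G} {l : ℕ} (ht : t ∈ cen g) (hto : orderOf t = q ^ l) :
    t ∈ Subgroup.center G := by
  classical
  haveI := Fact.mk hq
  by_contra htc
  obtain ⟨x, p, i, hp, hxo, hx⟩ := H.exists_primary_n
  have hpq := H.primes_ne hno hp hxo hyo hx hy
  have hqm : ¬ q ∣ m := fun h => hpq
    (H.symm.prime_eq (fun h' => hno h'.symm) hq hp hyo hxo hy hx h)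
  obtain ⟨v, hv, hvc, l', hvo⟩ := ThreeSizes.Hyp3.exists_mem_of_fac (w := x)
    (H.nc_of_nm hg) ht htc hto (by
      rw [hx, hg, Nat.factorization_mul (by have := H.n_lt; omega) (by have := H.m_lt; omega),
        Finsupp.add_apply]
      exact Nat.le_add_right _ _)
  have hxv : (orderOf x).Coprime (orderOf v) := primary_coprime hp hq hpq hxo hvo
  rcases H.size v with e | e | e | e
  · exact hvc (cix_eq_one.1 e)
  · exact (H.primes_ne hno hq hvo hyo e hy) rfl
  · exact hno ⟨p, q, i, l', x, v, hp, hq, hpq, hxo, hvo, hx, e, hv⟩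
  · obtain ⟨c, hc⟩ := exists_conj_commute hq hvo (y := y) (hy.symm ▸ hqm)
    exact hno ⟨p, q, i, j, x, c * y * c⁻¹, hp, hq, hpq, hxo, by rw [orderOf_conj]; exact hyo, hx,
      by rw [Block.CoprimeClasses.cix_conj]; exact hy, H.le_of_nm e (cen_mem_comm hv) hxv.symm hc⟩

include H in
theorem hasPair : HasPair G n m := by
  classical
  by_contra hno
  have hno' : ¬ HasPair G m n := fun h => hno h.symm
  obtain ⟨g, hg⟩ := H.ex_nm
  obtain ⟨i, r, k, hr, hro, hrc⟩ := exists_primary_noncentral (H.nc_of_nm hg)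
  have hmem : g ^ i ∈ cen g := Subgroup.pow_mem _ (self_mem_cen g) i
  have hg' : cix g = m * n := by rw [hg, mul_comm]
  rcases H.size (g ^ i) with e | e | e | e
  · exact hrc (cix_eq_one.1 e)
  · exact hrc (H.symm.central_of_nm hno' hg' hr hro e hmem hro)
  · exact hrc (H.central_of_nm hno hg hr hro e hmem hro)
  · obtain ⟨y, q, j, hq, hyo, hy⟩ := H.symm.exists_primary_n
    by_cases hrm : r ∣ m
    · obtain ⟨x, p, l, hp, hxo, hx⟩ := H.exists_primary_n
      obtain ⟨c, hc⟩ := exists_conj_commute hr hro (y := x) (hx ▸ H.symm.not_dvd_m hr hrm)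
      have h1 := H.symm.central_of_nm hno' (g := g ^ i) (by rw [e, mul_comm]) hp hxo hx hc
        (by rw [orderOf_conj]; exact hxo)
      exact H.nc_of_n hx ((conj_center_iff c x).1 h1)
    · obtain ⟨c, hc⟩ := exists_conj_commute hr hro (y := y) (hy ▸ hrm)
      have h1 := H.central_of_nm hno e hq hyo hy hc (by rw [orderOf_conj]; exact hyo)
      exact H.symm.nc_of_n hy ((conj_center_iff c y).1 h1)

include H in
theorem dvd_primes {x v : G} {p q i j : ℕ} (hp : p.Prime) (hq : q.Prime) (hpq : p ≠ q)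
    (hxo : orderOf x = p ^ i) (hvo : orderOf v = q ^ j) (hx : cix x = n) (hv : cix v = m) (hc : v ∈ cen x)
    {l : ℕ} (hl : l.Prime) (hlm : l ∣ m) : l = p ∨ l = q := by
  classical
  by_contra hne
  push Not at hne
  have HC := H.hypC hp hxo hx
  haveI := Fact.mk hl
  have hvc : (⟨v, hc⟩ : cen x) ∉ Subgroup.center (cen x) := fun hz => by
    have hle : cen x ≤ cen v := fun a ha =>
      mem_cen.2 (congrArg Subtype.val (Subgroup.mem_center_iff.1 hz ⟨a, ha⟩))
    have h1 : m ∣ n := by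
      have := Subgroup.index_dvd_of_le hle
      rw [← hv, ← hx]
      exact this
    exact H.symm.not_dvd h1
  have hSq : Sig ↥(cen x) p q := ⟨hq, hpq.symm, ⟨v, hc⟩, hvc, j, by rw [Subgroup.orderOf_mk]; exact hvo⟩
  have hSl : Sig ↥(cen x) p l := by
    by_contra hS
    obtain ⟨S, hS'⟩ := exists_sylow_le_centralizer (r := l) (u := x) (hx ▸ H.symm.not_dvd_m hl hlm)
    refine S.not_dvd_index ((show l ∣ cix v from hv ▸ hlm).trans (Subgroup.index_dvd_of_le fun a ha => ?_))
    obtain ⟨k, hk⟩ := (IsPGroup.iff_orderOf.1 S.isPGroup') ⟨a, ha⟩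
    rw [Subgroup.orderOf_mk] at hk
    refine mem_cen.2 (congrArg Subtype.val (?_ : (⟨a, hS' ha⟩ : cen x) * ⟨v, hc⟩ = ⟨v, hc⟩ * ⟨a, hS' ha⟩))
    by_contra hne'
    exact hS ⟨hl, hne.1, ⟨a, hS' ha⟩, fun hz => hne' (Subgroup.mem_center_iff.1 hz _).symm, k,
      by rw [Subgroup.orderOf_mk]; exact hk⟩
  exact hne.1 (HC.eq_p_of_dvd (fun r => by
    rcases eq_or_ne q r with rfl | h
    · exact ⟨l, hne.2, hSl⟩
    · exact ⟨q, h, hSq⟩) hl hlm)

include H in
theorem exists_primes : ∃ (p q i j : ℕ) (x v : G), p.Prime ∧ q.Prime ∧ p ≠ q ∧ orderOf x = p ^ i ∧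
    orderOf v = q ^ j ∧ cix x = n ∧ cix v = m ∧ v ∈ cen x ∧
    ((∃ a b : ℕ, m = p ^ a ∧ n = q ^ b) ∨ (∃ a b : ℕ, n = p ^ a ∧ m = q ^ b)) := by
  obtain ⟨p, q, i, j, x, v, hp, hq, hpq, hxo, hvo, hx, hv, hc⟩ := H.hasPair
  refine ⟨p, q, i, j, x, v, hp, hq, hpq, hxo, hvo, hx, hv, hc, ?_⟩
  have hm : ∀ l : ℕ, l.Prime → l ∣ m → l = p ∨ l = q := fun l hl hlm =>
    H.dvd_primes hp hq hpq hxo hvo hx hv hc hl hlm
  have hn : ∀ l : ℕ, l.Prime → l ∣ n → l = q ∨ l = p := fun l hl hln =>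
    H.symm.dvd_primes hq hp hpq.symm hvo hxo hv hx (cen_mem_comm hc) hl hln
  have hn0 : n ≠ 0 := by have := H.n_lt; omega
  have hm0 : m ≠ 0 := by have := H.m_lt; omega
  obtain ⟨l, hl, hlm⟩ := Nat.exists_prime_and_dvd (n := m) (by have := H.m_lt; omega)
  obtain ⟨l', hl', hln⟩ := Nat.exists_prime_and_dvd (n := n) (by have := H.n_lt; omega)
  have hll : l ≠ l' := fun e => H.not_dvd_m hl' hln (e ▸ hlm)
  rcases hm l hl hlm with rfl | rfl
  · have hl'q : l' = q := (hn l' hl' hln).resolve_right (fun e => hll e.symm)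
    subst hl'q
    exact Or.inl ⟨_, _,
      Nat.eq_prime_pow_of_unique_prime_dvd hm0
        (fun {d} hd hdm => (hm d hd hdm).resolve_right fun e => H.not_dvd_m hl' hln (e ▸ hdm)),
      Nat.eq_prime_pow_of_unique_prime_dvd hn0
        (fun {d} hd hdn => (hn d hd hdn).resolve_right fun e => H.not_dvd_m hd hdn (e ▸ hlm))⟩
  · have hl'p : l' = p := (hn l' hl' hln).resolve_left (fun e => hll e.symm)
    subst hl'p
    exact Or.inr ⟨_, _,
      Nat.eq_prime_pow_of_unique_prime_dvd hn0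
        (fun {d} hd hdn => (hn d hd hdn).resolve_left fun e => H.not_dvd_m hd hdn (e ▸ hlm)),
      Nat.eq_prime_pow_of_unique_prime_dvd hm0
        (fun {d} hd hdm => (hm d hd hdm).resolve_left fun e => H.not_dvd_m hl' hln (e ▸ hdm))⟩

end Hyp4

end Cfsg.Agent.Transfer.FourSizes
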