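import Mathlib
import Cfsg.Agent.Lib.Transfer.FourSizes.Pair
import Cfsg.Agent.Lib.Transfer.CN.Basic
import Cfsg.Agent.Lib.Grp.ThreeCountsSolvable
import Cfsg.Agent.Lib.Grp.Baer

/-!
Class sizes `1`, `p^a`, `q^b`, `p^a q^b`: Fitting subgroup facts and the nilpotent case.
-/

set_option autoImplicit false
set_option maxHeartbeats 1000000

open scoped Pointwise

universe u

namespace Cfsg.Agent.Transfer.FourSizes

open Cfsg Cfsg.Agent Cfsg.Agent.Transfer.ClassDisconnected Cfsg.Agent.Transfer.TwoRegular Subgroup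

variable {G : Type u} [Group G] [Finite G]

/-- An element of prime-power order whose centralizer contains `C(e) ∩ O_p(G)`, `e ∈ O_p(G)`, and which
commutes with `e`, centralizes `O_p(G)`. -/
theorem centralizes_pCore {p q k : ℕ} [Fact p.Prime] [Fact q.Prime] (hpq : p ≠ q) {t e : G}
    (hto : orderOf t = q ^ k) (he : e ∈ Cfsg.pCore p G)
    (hle : ∀ c ∈ Cfsg.pCore p G, c * e = e * c → c ∈ cen t) : Cfsg.pCore p G ≤ cen t := by
  haveI hn : (Cfsg.pCore p G).Normal := Grp.pCore_isNormal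
  haveI : Group.IsNilpotent (Cfsg.pCore p G) := Grp.pCore_isPGroup.isNilpotent
  refine Subgroup.subgroupOf_eq_top.1 (by_contra fun hne => ?_)
  obtain ⟨y, hyN, hyD⟩ := SetLike.exists_of_lt
    (normalizerCondition_of_isNilpotent ((cen t).subgroupOf (Cfsg.pCore p G)) (lt_top_iff_ne_top.2 hne))
  refine hyD (Subgroup.mem_subgroupOf.2 ?_)
  set z : G := (y : G)
  set c := z * t * z⁻¹ * t⁻¹ with hc
  have hz : z ∈ Cfsg.pCore p G := y.2
  have hcP : c ∈ Cfsg.pCore p G := by
    rw [hc, mul_assoc z t, mul_assoc z]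
    exact mul_mem hz (hn.conj_mem _ (inv_mem hz) t)
  have het : e ∈ cen t := hle e he rfl
  have h1 : z⁻¹ * e * z ∈ cen t :=
    Subgroup.mem_subgroupOf.1 ((Subgroup.mem_normalizer_iff''.1 hyN ⟨e, he⟩).1 (Subgroup.mem_subgroupOf.2 het))
  have h2 : z * t * z⁻¹ * e = e * (z * t * z⁻¹) := by
    calc z * t * z⁻¹ * e = z * (t * (z⁻¹ * e * z)) * z⁻¹ := by group
      _ = z * ((z⁻¹ * e * z) * t) * z⁻¹ := by rw [mem_cen.1 h1]
      _ = _ := by group
  have h3 : c * e = e * c :=
    ((show Commute (z * t * z⁻¹) e from h2).mul_left (show Commute e t from mem_cen.1 het).symm.inv_left).eq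
  have h4 : Commute c t := mem_cen.1 (hle c hcP h3)
  have h5 : c ^ (q ^ k) = 1 := by
    have e1 : c * t = z * t * z⁻¹ := by rw [hc, inv_mul_cancel_right]
    have := congrArg (fun w => w ^ (q ^ k)) e1
    simp only [conj_pow] at this
    rw [← hto, h4.mul_pow, pow_orderOf_eq_one, mul_one, mul_one, mul_inv_cancel] at this
    rw [← hto]; exact this
  obtain ⟨i, hi⟩ := (IsPGroup.iff_orderOf.1 Grp.pCore_isPGroup) ⟨c, hcP⟩
  rw [Subgroup.orderOf_mk] at hi
  have h6 : orderOf c = 1 := Nat.eq_one_of_dvd_coprimes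
    (Nat.Coprime.pow i k ((Nat.coprime_primes Fact.out Fact.out).2 hpq)) hi.dvd (orderOf_dvd_of_pow_eq_one h5)
  rw [orderOf_eq_one_iff, hc, mul_inv_eq_one, mul_inv_eq_iff_eq_mul] at h6
  exact mem_cen.2 h6

/-- The class size hypothesis with prime powers. -/
structure HP (G : Type u) [Group G] (p q a b : ℕ) : Prop where
  pp : p.Prime
  qq : q.Prime
  ne : p ≠ q
  hyp : Hyp4 G (q ^ b) (p ^ a)

namespace HP

variable {p q a b : ℕ} (H : HP G p q a b)

include H in
omit [Finite G] in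
theorem symm : HP G q p b a := ⟨H.qq, H.pp, H.ne.symm, H.hyp.symm⟩

include H in
omit [Finite G] in
theorem a_pos : a ≠ 0 := fun e => by have := H.hyp.m_lt; rw [e, pow_zero] at this; omega

include H in
omit [Finite G] in
theorem p_not_dvd : ¬ p ∣ q ^ b := fun h => H.ne ((Nat.prime_dvd_prime_iff_eq H.pp H.qq).1 (H.pp.dvd_of_dvd_pow h))

include H in
omit [Finite G] in
theorem dvd_m : p ∣ p ^ a := dvd_pow_self p H.a_pos

include H in
theorem central_other {z : G} {r k : ℕ} (hr : r.Prime) (hrp : r ≠ p) (hrq : r ≠ q) (hz : orderOf z = r ^ k) :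
    z ∈ Subgroup.center G := by
  haveI := Fact.mk hr
  obtain ⟨P, hP⟩ := (IsPGroup.of_card (n := k) (by rw [Nat.card_zpowers, hz]) :
    IsPGroup r (Subgroup.zpowers z)).exists_le_sylow
  have hcop : ∀ g : G, ¬ r ∣ cix g := by
    intro g hd
    have hn : ¬ r ∣ q ^ b := fun h => hrq ((Nat.prime_dvd_prime_iff_eq hr H.qq).1 (hr.dvd_of_dvd_pow h))
    have hm : ¬ r ∣ p ^ a := fun h => hrp ((Nat.prime_dvd_prime_iff_eq hr H.pp).1 (hr.dvd_of_dvd_pow h))
    rcases H.hyp.size g with e | e | e | e <;> rw [e] at hd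
    · exact hr.not_dvd_one hd
    · exact hn hd
    · exact hm hd
    · exact ((Nat.Prime.dvd_mul hr).1 hd).elim hn hm
  have htop : Subgroup.centralizer ((P : Subgroup G) : Set G) = ⊤ := by
    refine Grp.eq_top_of_conj_cover _ fun g => ?_
    obtain ⟨Q, hQ⟩ := exists_sylow_le_centralizer (r := r) (u := g) (hcop g)
    obtain ⟨h, hh⟩ := MulAction.exists_smul_eq G P Q
    refine ⟨h⁻¹, Subgroup.mem_centralizer_iff.2 fun w hw => ?_⟩
    have h2 : h * w * h⁻¹ ∈ cen g :=
      hQ (hh ▸ Subgroup.smul_mem_pointwise_smul w (MulAut.conj h) _ hw)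
    calc w * (h⁻¹ * g * h⁻¹⁻¹) = h⁻¹ * ((h * w * h⁻¹) * g) * h := by group
      _ = h⁻¹ * (g * (h * w * h⁻¹)) * h := by rw [mem_cen.1 h2]
      _ = _ := by group
  exact Subgroup.mem_center_iff.2 fun g => (Subgroup.mem_centralizer_iff.1
    (htop ▸ Subgroup.mem_top g : g ∈ Subgroup.centralizer ((P : Subgroup G) : Set G)) z
      (hP (Subgroup.mem_zpowers z))).symm

include H in
theorem quot_dvd {N : Subgroup G} [N.Normal] (hN : Subgroup.center G ≤ N) {r : ℕ} (hr : r.Prime)
    {y : G ⧸ N} (hy : y ≠ 1) {k : ℕ} (hyo : orderOf y = r ^ k) : r = p ∨ r = q := by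
  by_contra hne
  push Not at hne
  haveI := Fact.mk hr
  obtain ⟨g, rfl⟩ := QuotientGroup.mk'_surjective N y
  obtain ⟨c, d, hc, hd, ⟨i, hco⟩, hdo, hg⟩ := SquareFree.exists_p_decomp (p := r) g
  have hcN : c ∈ N := hN (H.central_other hr hne.1 hne.2 hco)
  have e : QuotientGroup.mk' N g = QuotientGroup.mk' N d := by
    rw [hg, map_mul, show QuotientGroup.mk' N c = 1 from (QuotientGroup.eq_one_iff c).2 hcN, one_mul]
  refine hy (orderOf_eq_one_iff.1 (Nat.eq_one_of_dvd_coprimes (hdo.pow_right k) ?_ hyo.dvd))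
  rw [e]; exact orderOf_map_dvd _ d

include H in
theorem isSolvable : Group.IsSolvable G := by
  classical
  haveI : Group.IsSolvable (G ⧸ Subgroup.center G) :=
    Grp.ThreeCounts.two_prime_solvable p q H.pp H.qq fun r hr hrd => by
      haveI := Fact.mk hr
      obtain ⟨y, hy⟩ := exists_prime_orderOf_dvd_card' r hrd
      exact H.quot_dvd le_rfl hr (k := 1) (fun e => hr.one_lt.ne' (hy ▸ orderOf_eq_one_iff.2 e)) (by rw [hy, pow_one])
  haveI : Group.IsSolvable ↥(Subgroup.center G) :=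
    Group.isSolvable_of_comm fun x y => Subtype.ext (Subgroup.mem_center_iff.1 y.2 (x : G))
  exact Group.isSolvable_of_ker_le_range (Subgroup.center G).subtype (QuotientGroup.mk' (Subgroup.center G))
    (by rw [QuotientGroup.ker_mk', Subgroup.range_subtype])

include H in
/-- An element of `F(G)` commutes with `c` as soon as `c` centralizes `O_p(G)` and `O_q(G)`. -/
theorem commute_fitting {c f : G} (hcp : c ∈ Subgroup.centralizer (Cfsg.pCore p G : Set G))
    (hcq : c ∈ Subgroup.centralizer (Cfsg.pCore q G : Set G)) (hf : f ∈ Cfsg.fittingSubgroup G) :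
    f * c = c * f := by
  haveI := Fact.mk H.pp; haveI := Fact.mk H.qq
  refine mem_cen.1 (mem_of_primary (cen c) fun j r k hr ho => ?_)
  have hfj := Subgroup.pow_mem _ hf j
  haveI := Fact.mk hr
  have hz : IsPGroup r (Subgroup.zpowers (f ^ j)) := IsPGroup.of_card (n := k) (by rw [Nat.card_zpowers, ho])
  by_cases hrp : r = p
  · subst hrp
    exact mem_cen.2 (Subgroup.mem_centralizer_iff.1 hcp _ (Grp.mem_pCore_of_mem_fitting hfj hz))
  by_cases hrq : r = q
  · subst hrq
    exact mem_cen.2 (Subgroup.mem_centralizer_iff.1 hcq _ (Grp.mem_pCore_of_mem_fitting hfj hz))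
  exact Subgroup.center_le_centralizer _ (H.central_other hr hrp hrq ho)

include H in
theorem mem_fitting {c : G} (hcp : c ∈ Subgroup.centralizer (Cfsg.pCore p G : Set G))
    (hcq : c ∈ Subgroup.centralizer (Cfsg.pCore q G : Set G)) : c ∈ Cfsg.fittingSubgroup G := by
  haveI := H.isSolvable
  exact Grp.centralizer_fittingSubgroup_le
    (Subgroup.mem_centralizer_iff.2 fun f hf => H.commute_fitting hcp hcq hf)

include H in
theorem center_le_fitting : Subgroup.center G ≤ Cfsg.fittingSubgroup G := fun _ hc =>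
  H.mem_fitting (Subgroup.center_le_centralizer _ hc) (Subgroup.center_le_centralizer _ hc)

include H in
theorem mem_pCore_of_dvd {x : G} {i : ℕ} (hxo : orderOf x = p ^ i) (hx : cix x = p ^ a) : x ∈ Cfsg.pCore p G := by
  haveI := Fact.mk H.pp
  exact ThreeSizes.mem_pCore_of_pow hxo hx

include H in
/-- A `p`-element of class size `p^a` makes every `q`-element centralize `O_p(G)`. -/
theorem centralize_of_good {x : G} {i : ℕ} (hxo : orderOf x = p ^ i) (hx : cix x = p ^ a) {t : G} {k : ℕ}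
    (hto : orderOf t = q ^ k) : t ∈ Subgroup.centralizer (Cfsg.pCore p G : Set G) := by
  classical
  haveI := Fact.mk H.pp; haveI := Fact.mk H.qq
  set R := (Cfsg.pCore q ↥(cen x)).map (cen x).subtype
  have hRmem : ∀ c ∈ cen x, (∃ j : ℕ, orderOf c = q ^ j) → c ∈ R := by
    rintro c hc ⟨j, hj⟩
    refine ⟨⟨c, hc⟩, ?_, rfl⟩
    rcases (H.hyp.symm.hypC H.pp hxo hx).size ⟨c, hc⟩
      (by rw [Subgroup.orderOf_mk, hj]; exact Nat.Coprime.pow_left _ ((Nat.coprime_primes H.qq H.pp).2 H.ne.symm))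
      with h1 | h1
    · exact ThreeSizes.mem_pCore_of_pow (k := j) (by rw [Subgroup.orderOf_mk]; exact hj) (a := 0)
        (h1.trans (pow_zero q).symm)
    · exact ThreeSizes.mem_pCore_of_pow (k := j) (by rw [Subgroup.orderOf_mk]; exact hj) h1
  have hle := ThreeSizes.centralizes H.ne (H.mem_pCore_of_dvd hxo hx) (Grp.pCore_isPGroup.map _)
    (Subgroup.map_subtype_le _) hRmem
  obtain ⟨Q, hQ⟩ := exists_sylow_le_centralizer (r := q) (u := x) (hx ▸ H.symm.p_not_dvd)
  obtain ⟨T, hT⟩ := (IsPGroup.of_card (n := k) (by rw [Nat.card_zpowers, hto]) :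
    IsPGroup q (Subgroup.zpowers t)).exists_le_sylow
  obtain ⟨g, hg⟩ := MulAction.exists_smul_eq G Q T
  obtain ⟨t', ht', e⟩ := exists_of_mem_smul (g := g) (v := t) (P := Q) (hg.symm ▸ hT (Subgroup.mem_zpowers t))
  obtain ⟨j, hj⟩ := (IsPGroup.iff_orderOf.1 Q.isPGroup') ⟨t', ht'⟩
  rw [Subgroup.orderOf_mk] at hj
  haveI : (Cfsg.pCore p G).Normal := Grp.pCore_isNormal
  rw [← e]
  refine Subgroup.Normal.conj_mem inferInstance _ ?_ g
  exact Subgroup.le_centralizer_iff.1 hle (hRmem t' (hQ ht') ⟨j, hj⟩)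

include H in
theorem isNilpotent_of_good {x v : G} {i j : ℕ} (hxo : orderOf x = p ^ i) (hx : cix x = p ^ a)
    (hvo : orderOf v = q ^ j) (hv : cix v = q ^ b) : Group.IsNilpotent G := by
  classical
  haveI := Fact.mk H.pp; haveI := Fact.mk H.qq
  haveI : (Cfsg.pCore p G).Normal := Grp.pCore_isNormal
  haveI : (Cfsg.pCore q G).Normal := Grp.pCore_isNormal
  have key : ∀ (z t : G) (k l : ℕ), orderOf z = p ^ k → orderOf t = q ^ l → Commute z t := by
    intro z t k l hzo hto
    have htp := H.centralize_of_good hxo hx hto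
    have hzq := H.symm.centralize_of_good hvo hv hzo
    set c := z * t * z⁻¹ * t⁻¹ with hc
    have hcp : c ∈ Subgroup.centralizer (Cfsg.pCore p G : Set G) :=
      mul_mem (Subgroup.Normal.conj_mem inferInstance _ htp z) (inv_mem htp)
    have hcq : c ∈ Subgroup.centralizer (Cfsg.pCore q G : Set G) := by
      rw [hc, mul_assoc z t, mul_assoc z]
      exact mul_mem hzq (Subgroup.Normal.conj_mem inferInstance _ (inv_mem hzq) t)
    have hcF := H.mem_fitting hcp hcq
    obtain ⟨c₁, c₂, hc₁, hc₂, ⟨e₁, hc₁o⟩, hc₂o, hdec⟩ := SquareFree.exists_p_decomp (p := p) c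
    have hc₁P : c₁ ∈ Cfsg.pCore p G := Grp.mem_pCore_of_mem_fitting (Subgroup.zpowers_le.2 hcF hc₁)
      (IsPGroup.of_card (n := e₁) (by rw [Nat.card_zpowers, hc₁o]))
    have hc₂z : Commute c₂ z := by
      refine mem_cen.1 (mem_of_primary (cen z) fun d r k' hr ho => ?_)
      by_cases h1 : c₂ ^ d ∈ Subgroup.center G
      · exact Subgroup.center_le_centralizer _ h1
      have hrp : r ≠ p := ThreeSizes.prime_ne_of_coprime H.pp hc₂o ho h1
      have hrq : r = q := by_contra fun h2 => h1 (H.central_other hr hrp h2 ho)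
      subst hrq
      exact mem_cen.2 (Subgroup.mem_centralizer_iff.1 hzq _ (Grp.mem_pCore_of_mem_fitting
        (Subgroup.pow_mem _ (Subgroup.zpowers_le.2 hcF hc₂) d) (IsPGroup.of_card (n := k') (by rw [Nat.card_zpowers, ho]))))
    have hc12 : Commute c₁ c₂ := by
      obtain ⟨i1, rfl⟩ := Subgroup.mem_zpowers_iff.1 hc₁
      obtain ⟨i2, rfl⟩ := Subgroup.mem_zpowers_iff.1 hc₂
      exact Commute.zpow_zpow (Commute.refl c) i1 i2
    -- `z⁻¹ c₁` is a `p`-element
    have hsup : IsPGroup p ↥(Subgroup.zpowers z ⊔ Cfsg.pCore p G) :=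
      (IsPGroup.of_card (n := k) (by rw [Nat.card_zpowers, hzo]) : IsPGroup p (Subgroup.zpowers z)).to_sup_of_normal_right
        Grp.pCore_isPGroup
    obtain ⟨e, he⟩ := (IsPGroup.iff_orderOf.1 hsup) ⟨z⁻¹ * c₁,
      mul_mem (Subgroup.mem_sup_left (inv_mem (Subgroup.mem_zpowers z))) (Subgroup.mem_sup_right hc₁P)⟩
    rw [Subgroup.orderOf_mk] at he
    have h7 : t * z⁻¹ * t⁻¹ = z⁻¹ * c₁ * c₂ := by rw [mul_assoc z⁻¹ c₁ c₂, ← hdec, hc]; group
    have h8 : c₂ ^ (p ^ (e + k)) = 1 := by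
      have h9 := congrArg (fun w => w ^ (p ^ (e + k))) h7
      simp only [conj_pow] at h9
      have hc' : Commute (z⁻¹ * c₁) c₂ := hc₂z.symm.inv_left.mul_left hc12
      rw [hc'.mul_pow, inv_pow, orderOf_dvd_iff_pow_eq_one.1 (hzo ▸ pow_dvd_pow p (Nat.le_add_left k e)),
        orderOf_dvd_iff_pow_eq_one.1 (he ▸ pow_dvd_pow p (Nat.le_add_right e k)), inv_one, mul_one,
        mul_inv_cancel, one_mul] at h9
      exact h9.symm
    have hc₂1 : c₂ = 1 := orderOf_eq_one_iff.1
      (Nat.eq_one_of_dvd_coprimes (hc₂o.pow_right (e + k)) dvd_rfl (orderOf_dvd_of_pow_eq_one h8))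
    rw [hc₂1, mul_one] at hdec
    have h10 : Commute c t := hdec ▸ (Subgroup.mem_centralizer_iff.1 htp c₁ hc₁P : c₁ * t = t * c₁)
    have h11 : c ^ (q ^ l) = 1 := by
      have e1 : c * t = z * t * z⁻¹ := by rw [hc, inv_mul_cancel_right]
      have h9 := congrArg (fun w => w ^ (q ^ l)) e1
      simp only [conj_pow] at h9
      rw [← hto, h10.mul_pow, pow_orderOf_eq_one, mul_one, mul_one, mul_inv_cancel] at h9
      rw [← hto]; exact h9
    have h12 : orderOf c = 1 := Nat.eq_one_of_dvd_coprimes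
      (Nat.Coprime.pow e₁ l ((Nat.coprime_primes H.pp H.qq).2 H.ne)) (hdec ▸ hc₁o.dvd)
      (orderOf_dvd_of_pow_eq_one h11)
    rw [orderOf_eq_one_iff, hc, mul_inv_eq_one, mul_inv_eq_iff_eq_mul] at h12
    exact h12
  refine CN.isNilpotent_of_commute fun r s hr hs hrs c d ⟨k, hk⟩ ⟨l, hl⟩ => ?_
  by_cases h1 : r ≠ p ∧ r ≠ q
  · exact (Subgroup.mem_center_iff.1 (H.central_other hr h1.1 h1.2 hk) d).symm
  by_cases h2 : s ≠ p ∧ s ≠ q
  · exact Subgroup.mem_center_iff.1 (H.central_other hs h2.1 h2.2 hl) c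
  simp only [not_and_or, not_not] at h1 h2
  rcases h1 with rfl | rfl <;> rcases h2 with rfl | rfl
  · exact absurd rfl hrs
  · exact key c d k l hk hl
  · exact (key d c l k hl hk).symm
  · exact absurd rfl hrs

end HP

end Cfsg.Agent.Transfer.FourSizes
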