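import Mathlib
import Cfsg.Agent.Lib.Transfer.FourSizes.Basic
import Cfsg.Agent.Lib.Grp.Frattini
import Cfsg.Agent.Lib.Grp.Coprime

/-!
Class sizes `1`, `p^a`, `q^b`, `p^a q^b`, a `p`-element of size `q^b` commuting with a `q`-element of size
`p^a`: no primary element of the other two kinds, and `p^a < q^b` when `O_q(G)` is not central.
-/

set_option autoImplicit false
set_option maxHeartbeats 1000000

open scoped Pointwise

universe u

namespace Cfsg.Agent.Transfer.FourSizes

open Cfsg Cfsg.Agent Cfsg.Agent.Transfer.ClassDisconnected Cfsg.Agent.Transfer.TwoRegular Subgroup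

variable {G : Type u} [Group G] [Finite G]

/-- Iterating a conjugation whose displacement it fixes. -/
theorem conj_pow_fix {K : Type*} [Group K] {Z s r : K} (h1 : Z * s * Z⁻¹ = r * s) (h2 : Commute Z r) (k : ℕ) :
    Z ^ k * s * (Z ^ k)⁻¹ = r ^ k * s := by
  induction k with
  | zero => simp
  | succ k ih =>
    calc Z ^ (k + 1) * s * (Z ^ (k + 1))⁻¹ = Z * (Z ^ k * s * (Z ^ k)⁻¹) * Z⁻¹ := by rw [pow_succ']; group
      _ = Z * (r ^ k * s) * Z⁻¹ := by rw [ih]
      _ = (Z * r ^ k) * s * Z⁻¹ := by group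
      _ = (r ^ k * Z) * s * Z⁻¹ := by rw [(h2.pow_right k).eq]
      _ = r ^ k * (Z * s * Z⁻¹) := by group
      _ = r ^ (k + 1) * s := by rw [h1, pow_succ, mul_assoc]

/-- Relative indices in a finite group are nonzero. -/
theorem relIndex_ne' {K : Type*} [Group K] [Finite K] (A B : Subgroup K) : A.relIndex B ≠ 0 :=
  Subgroup.index_ne_zero_of_finite

namespace HP

variable {p q a b : ℕ} (H : HP G p q a b)
variable {x v : G} {i j : ℕ} (hxo : orderOf x = p ^ i) (hx : cix x = q ^ b)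
variable (hvo : orderOf v = q ^ j) (hv : cix v = p ^ a) (hc : v ∈ cen x)

include H hxo hx hvo hv hc in
theorem false_of_good {w : G} {k : ℕ} (hwo : orderOf w = q ^ k) (hw : cix w = q ^ b) : False := by
  classical
  haveI := Fact.mk H.pp; haveI := Fact.mk H.qq
  have hwq : w ∈ Cfsg.pCore q G := H.symm.mem_pCore_of_dvd hwo hw
  have hall : ∀ (z : G) (l : ℕ), orderOf z = p ^ l → z ∈ cen w := fun z l hz => mem_cen.2
    (Subgroup.mem_centralizer_iff.1 (H.symm.centralize_of_good hwo hw hz) w hwq).symm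
  have hxw : x ∈ cen w := hall x i hxo
  have hco : (orderOf w).Coprime (orderOf x) := primary_coprime H.qq H.pp H.ne.symm hwo hxo
  have h0 := ThreeSizes.cen_mul_eq (show Commute w x from (mem_cen.1 hxw).symm) hco
  obtain ⟨P, hP⟩ := exists_sylow_le_centralizer (r := p) (u := x) (hx ▸ H.p_not_dvd)
  have hPle : (P : Subgroup G) ≤ cen (w * x) := by
    rw [h0]
    refine le_inf (fun c hcP => ?_) hP
    obtain ⟨l, hl⟩ := (IsPGroup.iff_orderOf.1 P.isPGroup') ⟨c, hcP⟩
    exact hall c l (by rw [← hl, Subgroup.orderOf_mk])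
  have hsz : cix (w * x) = q ^ b := by
    have h1 : q ^ b ∣ cix (w * x) := hw ▸ Subgroup.index_dvd_of_le (h0 ▸ inf_le_left : cen (w * x) ≤ cen w)
    have hp' : ¬ p ∣ cix (w * x) := fun hd => P.not_dvd_index (hd.trans (Subgroup.index_dvd_of_le hPle))
    rcases H.hyp.size (w * x) with e | e | e | e
    · rw [e, Nat.dvd_one] at h1; have := H.hyp.n_lt; omega
    · exact e
    · exact absurd (e ▸ H.dvd_m) hp'
    · exact absurd (e ▸ H.dvd_m.mul_left _) hp'
  have heq : ∀ g : G, cix g = q ^ b → cen (w * x) ≤ cen g → cen g ≤ cen (w * x) := by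
    intro g hg hle
    refine Subgroup.relIndex_eq_one.1 (Nat.eq_of_mul_eq_mul_right (cix_pos g) ?_)
    show (cen (w * x)).relIndex (cen g) * (cen g).index = 1 * cix g
    rw [Subgroup.relIndex_mul_index hle, one_mul]
    exact hsz.trans hg.symm
  have hvw : v ∈ cen w := (h0 ▸ inf_le_left : cen (w * x) ≤ cen w) (heq x hx (h0 ▸ inf_le_right) hc)
  -- `v` centralizes the `p`-elements, which all lie in `C(w)`
  haveI : (Cfsg.pCore p ↥(cen w)).Normal := Grp.pCore_isNormal
  have HW := H.hyp.hypC H.qq hwo hw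
  have hmem : ∀ (c : cen w) (l : ℕ), orderOf c = p ^ l → c ∈ Cfsg.pCore p ↥(cen w) := by
    intro c l hl
    rcases HW.size c (by rw [hl]; exact Nat.Coprime.pow_left _ ((Nat.coprime_primes H.pp H.qq).2 H.ne)) with h1 | h1
    · exact ThreeSizes.mem_pCore_of_pow hl (a := 0) (h1.trans (pow_zero p).symm)
    · exact ThreeSizes.mem_pCore_of_pow hl h1
  obtain ⟨S⟩ : Nonempty (Sylow p G) := inferInstance
  refine S.not_dvd_index ((show p ∣ cix v from hv ▸ H.dvd_m).trans (Subgroup.index_dvd_of_le fun c hcS => ?_))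
  obtain ⟨l, hl⟩ := (IsPGroup.iff_orderOf.1 S.isPGroup') ⟨c, hcS⟩
  rw [Subgroup.orderOf_mk] at hl
  refine mem_cen.2 (congrArg Subtype.val (?_ : (⟨c, hall c l hl⟩ : cen w) * ⟨v, hvw⟩ = ⟨v, hvw⟩ * ⟨c, hall c l hl⟩))
  refine (commute_of_cover (p := q) (s := p) ?_ (Cfsg.pCore p ↥(cen w)) hmem ?_
    (y := (⟨v, hvw⟩ : cen w)) (k := j) (by rw [Subgroup.orderOf_mk]; exact hvo)
    (hmem _ l (by rw [Subgroup.orderOf_mk]; exact hl))).symm
  · intro g t k' ht htq htp hg
    exact Subgroup.mem_center_iff.2 fun d => Subtype.ext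
      (Subgroup.mem_center_iff.1 (H.central_other ht htp htq (z := (g : G))
        (by rw [Subgroup.orderOf_coe]; exact hg)) d)
  · intro z hz
    obtain ⟨l', hl'⟩ := (IsPGroup.iff_orderOf.1 Grp.pCore_isPGroup) ⟨z, hz⟩
    rw [Subgroup.orderOf_mk] at hl'
    rcases HW.size z (by rw [hl']; exact Nat.Coprime.pow_left _ ((Nat.coprime_primes H.pp H.qq).2 H.ne))
      with h1 | h1 <;> intro hd
    · exact H.qq.not_dvd_one (h1 ▸ hd)
    · exact H.symm.p_not_dvd (h1 ▸ hd)

include H hxo hx hvo hv hc in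
/-- Class sizes of noncentral `q`-elements. -/
theorem size_q {w : G} {k : ℕ} (hwo : orderOf w = q ^ k) (hw : w ∉ Subgroup.center G) :
    cix w = p ^ a ∨ cix w = q ^ b * p ^ a := by
  rcases H.hyp.size w with e | e | e | e
  · exact absurd (cix_eq_one.1 e) hw
  · exact (H.false_of_good hxo hx hvo hv hc hwo e).elim
  · exact Or.inl e
  · exact Or.inr e

include H hxo hx hvo hv hc in
/-- Class sizes of noncentral `p`-elements. -/
theorem size_p {w : G} {k : ℕ} (hwo : orderOf w = p ^ k) (hw : w ∉ Subgroup.center G) :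
    cix w = q ^ b ∨ cix w = q ^ b * p ^ a := by
  rcases H.symm.size_q hvo hv hxo hx (cen_mem_comm hc) hwo hw with e | e
  · exact Or.inl e
  · exact Or.inr (by rw [e, mul_comm])

include H hxo hx hvo hv hc in
theorem pow_lt_of_core (hR : ¬ Cfsg.pCore q G ≤ Subgroup.center G) : p ^ a < q ^ b := by
  classical
  haveI := Fact.mk H.pp; haveI := Fact.mk H.qq
  set f := QuotientGroup.mk' (Subgroup.center G) with hf
  set T := (Cfsg.pCore q G).map f with hT
  haveI : (Cfsg.pCore q G).Normal := Grp.pCore_isNormal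
  haveI : T.Normal := Subgroup.Normal.map inferInstance f (QuotientGroup.mk'_surjective _)
  have hTp : IsPGroup q T := Grp.pCore_isPGroup.map f
  haveI : Nontrivial T := by
    rw [Subgroup.nontrivial_iff_ne_bot]
    intro e
    refine hR ?_
    rwa [hT, Subgroup.map_eq_bot_iff, QuotientGroup.ker_mk'] at e
  set R := (Subgroup.center T).map T.subtype with hRdef
  haveI hRn : R.Normal := ConjAct.normal_of_characteristic_of_normal
  have hRT : R ≤ T := Subgroup.map_subtype_le _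
  have hRcomm : ∀ c ∈ R, ∀ d ∈ R, c * d = d * c := by
    rintro _ ⟨c, hc', rfl⟩ _ ⟨d, -, rfl⟩
    exact (congrArg Subtype.val (Subgroup.mem_center_iff.1 hc' d)).symm
  have hR1 : R ≠ ⊥ := by
    haveI := hTp.center_nontrivial
    rw [Ne, Subgroup.map_eq_bot_iff_of_injective _ T.subtype_injective, ← Ne, ← Subgroup.nontrivial_iff_ne_bot]
    infer_instance
  have hlift : ∀ c ∈ R, ∃ r : G, (∃ k, orderOf r = q ^ k) ∧ f r = c := by
    intro c hcR
    obtain ⟨r, hr, rfl⟩ := hRT hcR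
    obtain ⟨k, hk⟩ := (IsPGroup.iff_orderOf.1 Grp.pCore_isPGroup) ⟨r, hr⟩
    exact ⟨r, ⟨k, by rw [← hk, Subgroup.orderOf_mk]⟩, rfl⟩
  have hnc : ∀ r : G, f r ≠ 1 → r ∉ Subgroup.center G := fun r h hz => h ((QuotientGroup.eq_one_iff r).2 hz)
  have hcomm : ∀ (g r : G) (k l : ℕ), orderOf g = p ^ k → orderOf r = q ^ l → Commute (f g) (f r) →
      Commute g r := by
    intro g r k l hg hr h
    refine ThreeSizes.commute_of_coprime ((QuotientGroup.eq_one_iff _).1 ?_) (primary_coprime H.pp H.qq H.ne hg hr)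
    show f (g * r * g⁻¹ * r⁻¹) = 1
    rw [map_mul, map_mul, map_mul, map_inv, map_inv, h.eq, mul_inv_cancel_right, mul_inv_cancel]
  have hbound : ∀ (z : G) (k : ℕ), orderOf z = p ^ k → z ∉ Subgroup.center G →
      (cen (f z)).relIndex R ≤ q ^ b := by
    intro z k hzo hzc
    have h1 : (cen (f z)).relIndex R ∣ cix z :=
      (Kazarin.relIndex_dvd_index _ R).trans
        (SquareFree.index_centralizer_map_dvd f (QuotientGroup.mk'_surjective _) z)
    obtain ⟨l, hl⟩ := IsPGroup.iff_card.1 (hTp.to_le hRT)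
    have h2 : (cen (f z)).relIndex R ∣ q ^ l := hl ▸ Subgroup.relIndex_dvd_card _ _
    refine Nat.le_of_dvd (pow_pos H.qq.pos b) ?_
    rcases H.size_p hxo hx hvo hv hc hzo hzc with e | e <;> rw [e] at h1
    · exact h1
    · exact (Nat.Coprime.coprime_dvd_left h2
        (Nat.Coprime.pow l a ((Nat.coprime_primes H.qq H.pp).2 H.ne.symm))).dvd_of_dvd_mul_right h1
  set R₁ := R ⊓ cen (f x) with hR₁
  have hxc : x ∉ Subgroup.center G := H.hyp.nc_of_n hx
  by_cases hR₁b : R₁ = ⊥
  · -- `x` is fixed-point-free on `R`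
    obtain ⟨c, hcR, hc1⟩ := (Subgroup.bot_or_exists_ne_one R).resolve_left hR1
    obtain ⟨r, ⟨l, hro⟩, rfl⟩ := hlift c hcR
    have hr1 : f r ≠ 1 := hc1
    have hrc := hnc r hr1
    set D := (cen (f r)).comap f with hD
    have hle : cen r ≤ D := fun g hg => mem_cen.2 (by rw [← map_mul, ← map_mul, mem_cen.1 hg])
    have hrel : ¬ p ∣ (cen r).relIndex D := by
      intro hd
      obtain ⟨S⟩ : Nonempty (Sylow p D) := inferInstance
      refine S.not_dvd_index (hd.trans (Subgroup.index_dvd_of_le (fun g hg => Subgroup.mem_subgroupOf.2 ?_)))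
      obtain ⟨k, hk⟩ := (IsPGroup.iff_orderOf.1 S.isPGroup') ⟨g, hg⟩
      rw [Subgroup.orderOf_mk] at hk
      exact mem_cen.2 (hcomm (g : G) r k l (by rw [Subgroup.orderOf_coe]; exact hk) hro (mem_cen.1 g.2)).eq
    have hpa : p ^ a ∣ cix r := by
      rcases H.size_q hxo hx hvo hv hc hro hrc with e | e <;> rw [e]
      exact dvd_mul_left _ _
    rw [show cix r = (cen r).index from rfl, ← Subgroup.relIndex_mul_index hle,
      hD, Subgroup.index_comap_of_surjective _ (QuotientGroup.mk'_surjective _)] at hpa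
    have hpa' : p ^ a ∣ cix (f r) :=
      (Nat.Coprime.pow_left a ((Nat.Prime.coprime_iff_not_dvd H.pp).2 hrel)).dvd_of_dvd_mul_left hpa
    have hsub : cl (f r) ⊆ ((R : Set (G ⧸ Subgroup.center G)) \ {1}) := by
      rintro d hd
      obtain ⟨g, rfl⟩ := isConj_iff.1 hd
      exact ⟨hRn.conj_mem _ hcR g, fun e => hr1 (by simpa using e)⟩
    have hlt : cix (f r) < Nat.card R := by
      rw [← ncard_cl]
      exact lt_of_le_of_lt (Set.ncard_le_ncard hsub (Set.toFinite _))
        ((Set.ncard_sdiff_singleton_lt_of_mem (one_mem R) (Set.toFinite _)).trans_eq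
          (Nat.card_coe_set_eq _).symm)
    have he : (cen (f x)).relIndex R = Nat.card R := by
      rw [← Subgroup.inf_relIndex_right, inf_comm, ← hR₁, hR₁b, Subgroup.relIndex_bot_left]
    exact lt_of_le_of_lt (Nat.le_of_dvd (cix_pos _) hpa') (lt_of_lt_of_le hlt (he ▸ hbound x i hxo hxc))
  · -- `P` acts on `C_R(x)` with orbits of size `p ^ a`
    obtain ⟨P, hP⟩ := exists_sylow_le_centralizer (r := p) (u := x) (hx ▸ H.p_not_dvd)
    have hPo : ∀ g ∈ (P : Subgroup G), ∃ k, orderOf g = p ^ k := fun g hg => by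
      obtain ⟨k, hk⟩ := (IsPGroup.iff_orderOf.1 P.isPGroup') ⟨g, hg⟩
      exact ⟨k, by rw [← hk, Subgroup.orderOf_mk]⟩
    have hconjR₁ : ∀ g ∈ (P : Subgroup G), ∀ c ∈ R₁, f g * c * (f g)⁻¹ ∈ R₁ := by
      intro g hg c hc'
      refine ⟨hRn.conj_mem _ hc'.1 _, mem_cen.2 ?_⟩
      have e1 : f g * f x = f x * f g := by rw [← map_mul, ← map_mul, mem_cen.1 (hP hg)]
      exact ((show Commute (f g) (f x) from e1).mul_left
        (show Commute c (f x) from mem_cen.1 hc'.2)).mul_left (show Commute (f g) (f x) from e1).inv_left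
    have hstab : ∀ c ∈ R₁, c ≠ 1 → ((cen c).comap f).relIndex (P : Subgroup G) = p ^ a := by
      intro c hc' hc1
      obtain ⟨r, ⟨l, hro⟩, rfl⟩ := hlift c hc'.1
      have hrc := hnc r hc1
      have e1 : ((cen (f r)).comap f).relIndex (P : Subgroup G) = (cen r).relIndex (P : Subgroup G) := by
        rw [← Subgroup.inf_relIndex_right, ← Subgroup.inf_relIndex_right (cen r)]
        congr 1
        ext g
        refine ⟨fun h => ⟨?_, h.2⟩, fun h => ⟨mem_cen.2 ?_, h.2⟩⟩
        · obtain ⟨k, hk⟩ := hPo g h.2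
          exact mem_cen.2 (hcomm g r k l hk hro (mem_cen.1 h.1)).eq
        · rw [← map_mul, ← map_mul, mem_cen.1 h.1]
      rw [e1]
      have hrx : r ∈ cen x :=
        mem_cen.2 (hcomm x r i l hxo hro (show Commute (f r) (f x) from mem_cen.1 hc'.2).symm).eq.symm
      have hle : (cen r).relIndex (P : Subgroup G) ≤ p ^ a := by
        refine (Subgroup.relIndex_le_of_le_right hP (relIndex_ne' _ _)).trans ?_
        rcases H.hyp.rel_size hx hrx (primary_coprime H.pp H.qq H.ne hxo hro) with e | e <;> rw [e]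
        exact Nat.one_le_pow _ _ H.pp.pos
      refine le_antisymm hle (Nat.le_of_dvd (Nat.pos_of_ne_zero (relIndex_ne' _ _)) ?_)
      have h1 : p ^ a ∣ (cen r).relIndex (P : Subgroup G) * (P : Subgroup G).index := by
        rw [← Subgroup.inf_relIndex_right, Subgroup.relIndex_mul_index inf_le_right]
        refine dvd_trans ?_ (Subgroup.index_dvd_of_le inf_le_left)
        rcases H.size_q hxo hx hvo hv hc hro hrc with e | e <;> rw [show (cen r).index = cix r from rfl, e]
        exact dvd_mul_left _ _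
      exact (Nat.Coprime.pow_left a
        ((Nat.Prime.coprime_iff_not_dvd H.pp).2 P.not_dvd_index)).dvd_of_dvd_mul_right h1
    -- a central element of order `p` of the acting group
    obtain ⟨c₀, hc₀, hc₀1⟩ := (Subgroup.bot_or_exists_ne_one R₁).resolve_left hR₁b
    set N₀ := ((Subgroup.centralizer (R₁ : Set (G ⧸ Subgroup.center G))).comap f).subgroupOf (P : Subgroup G) with hN₀
    haveI hN₀n : N₀.Normal := by
      constructor
      intro n hn g
      rw [hN₀] at hn
      refine Subgroup.mem_subgroupOf.2 (Subgroup.mem_centralizer_iff.2 fun c hcm => ?_)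
      have h1 := Subgroup.mem_centralizer_iff.1 (Subgroup.mem_comap.1 (Subgroup.mem_subgroupOf.1 hn)) ((f g)⁻¹ * c * f g)
        (SetLike.mem_coe.2 (by simpa using hconjR₁ (g⁻¹ : P) (g⁻¹ : P).2 c hcm))
      show c * f (g * n * g⁻¹ : P) = f (g * n * g⁻¹ : P) * c
      simp only [Subgroup.coe_mul, Subgroup.coe_inv, map_mul, map_inv]
      calc c * (f g * f n * (f g)⁻¹) = f g * (((f g)⁻¹ * c * f g) * f n) * (f g)⁻¹ := by group
        _ = f g * (f n * ((f g)⁻¹ * c * f g)) * (f g)⁻¹ := by rw [h1]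
        _ = _ := by group
    haveI : Nontrivial (↥(P : Subgroup G) ⧸ N₀) := by
      rw [QuotientGroup.nontrivial_iff]
      intro e
      have h1 := hstab c₀ hc₀ hc₀1
      have h2 : ((cen c₀).comap f).relIndex (P : Subgroup G) = 1 := Subgroup.relIndex_eq_one.2 fun g hg => by
        have hg' : (⟨g, hg⟩ : (P : Subgroup G)) ∈ N₀ := e ▸ Subgroup.mem_top _
        rw [hN₀] at hg'
        exact mem_cen.2 (Subgroup.mem_centralizer_iff.1 (Subgroup.mem_comap.1 (Subgroup.mem_subgroupOf.1 hg')) c₀ hc₀).symm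
      rw [h2] at h1
      have := H.hyp.m_lt
      omega
    have hQp : IsPGroup p (↥(P : Subgroup G) ⧸ N₀) := P.isPGroup'.to_quotient N₀
    haveI := hQp.center_nontrivial
    obtain ⟨k, hk0, hk⟩ : ∃ k, 0 < k ∧ Nat.card (Subgroup.center (↥(P : Subgroup G) ⧸ N₀)) = p ^ k :=
      (hQp.to_subgroup _).nontrivial_iff_card.1 inferInstance
    obtain ⟨zb, hzb⟩ := exists_prime_orderOf_dvd_card' (G := Subgroup.center (↥(P : Subgroup G) ⧸ N₀)) p
      (hk ▸ dvd_pow_self p hk0.ne')
    obtain ⟨⟨z, hzP⟩, hz⟩ := QuotientGroup.mk_surjective (zb : ↥(P : Subgroup G) ⧸ N₀)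
    obtain ⟨kz, hzo⟩ := hPo z hzP
    have hzN : (⟨z, hzP⟩ : (P : Subgroup G)) ∉ N₀ := fun h => by
      rw [← Subgroup.orderOf_coe, ← hz, (QuotientGroup.eq_one_iff _).2 h, orderOf_one] at hzb
      exact H.pp.ne_one hzb.symm
    have hzpow : ∀ c ∈ R₁, f z ^ p * c = c * f z ^ p := fun c hcm => by
      have h1 : (⟨z, hzP⟩ : (P : Subgroup G)) ^ p ∈ N₀ := by
        rw [← QuotientGroup.eq_one_iff, QuotientGroup.mk_pow, hz, ← Subgroup.coe_pow,
          orderOf_dvd_iff_pow_eq_one.1 hzb.dvd]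
        rfl
      rw [hN₀] at h1
      have := Subgroup.mem_centralizer_iff.1 (Subgroup.mem_comap.1 (Subgroup.mem_subgroupOf.1 h1)) c hcm
      simpa using this.symm
    have hzswap : ∀ g ∈ (P : Subgroup G), ∀ c ∈ R₁,
        f g * (f z * c * (f z)⁻¹) * (f g)⁻¹ = f z * (f g * c * (f g)⁻¹) * (f z)⁻¹ := by
      intro g hg c hcm
      have h1 : (⟨g, hg⟩ * ⟨z, hzP⟩ : (P : Subgroup G))⁻¹ * (⟨z, hzP⟩ * ⟨g, hg⟩) ∈ N₀ := by
        rw [← QuotientGroup.eq, QuotientGroup.mk_mul, QuotientGroup.mk_mul, hz]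
        exact Subgroup.mem_center_iff.1 zb.2 _
      rw [hN₀] at h1
      have h2 := Subgroup.mem_centralizer_iff.1 (Subgroup.mem_comap.1 (Subgroup.mem_subgroupOf.1 h1)) c hcm
      simp only [Subgroup.coe_mul, Subgroup.coe_inv, map_mul, map_inv] at h2
      calc f g * (f z * c * (f z)⁻¹) * (f g)⁻¹
          = f g * f z * (c * ((f g * f z)⁻¹ * (f z * f g))) * (f z * f g)⁻¹ := by group
        _ = f g * f z * (((f g * f z)⁻¹ * (f z * f g)) * c) * (f z * f g)⁻¹ := by rw [h2]
        _ = _ := by group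
    have hfix : ∀ s ∈ R₁, ∀ c ∈ R₁, f z * s * (f z)⁻¹ = c * s → Commute (f z) c → c = 1 := by
      intro s hs c hcm h1 h2
      obtain ⟨l, hl⟩ := (IsPGroup.iff_orderOf.1 (hTp.to_le hRT)) ⟨c, hcm.1⟩
      rw [Subgroup.orderOf_mk] at hl
      have h3 := conj_pow_fix h1 h2 p
      rw [hzpow s hs, mul_inv_cancel_right] at h3
      exact orderOf_eq_one_iff.1 (Nat.eq_one_of_dvd_coprimes
        (show (q ^ l).Coprime p from Nat.Coprime.pow_left l ((Nat.coprime_primes H.qq H.pp).2 H.ne.symm))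
        hl.dvd (orderOf_dvd_of_pow_eq_one (mul_eq_right.1 h3.symm)))
    have hfree : R₁ ⊓ cen (f z) = ⊥ := by
      rw [Subgroup.eq_bot_iff_forall]
      rintro r₁ ⟨hr₁, hr₁z⟩
      by_contra hne
      obtain ⟨s, hs, hsz⟩ : ∃ s ∈ R₁, s * f z ≠ f z * s := by
        by_contra hall
        push Not at hall
        exact hzN (Subgroup.mem_subgroupOf.2 (Subgroup.mem_centralizer_iff.2 hall))
      set r₂ := f z * s * (f z)⁻¹ * s⁻¹ with hr₂
      have hr₂R : r₂ ∈ R₁ := mul_mem (hconjR₁ z hzP s hs) (inv_mem hs)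
      have e₂ : f z * s * (f z)⁻¹ = r₂ * s := by rw [hr₂, inv_mul_cancel_right]
      have hr₂z : ¬ Commute (f z) r₂ := fun h => by
        have h' := hfix s hs r₂ hr₂R e₂ h
        rw [h', one_mul, mul_inv_eq_iff_eq_mul] at e₂
        exact hsz e₂.symm
      have hr₂1 : r₂ ≠ 1 := fun e => hr₂z (e ▸ Commute.one_right _)
      have hr₃ : r₁ * r₂ ≠ 1 := fun e => hr₂z (by
        rw [show r₂ = r₁⁻¹ from eq_inv_of_mul_eq_one_right e]
        exact (show Commute r₁ (f z) from mem_cen.1 hr₁z).symm.inv_right)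
      set S₁ := ((cen r₁).comap f) ⊓ (P : Subgroup G)
      set S₂ := ((cen r₂).comap f) ⊓ (P : Subgroup G)
      set S₃ := ((cen (r₁ * r₂)).comap f) ⊓ (P : Subgroup G)
      have h31 : S₃ ≤ S₁ := by
        rintro g ⟨hg, hgP⟩
        refine ⟨?_, hgP⟩
        set d := f g * r₁ * (f g)⁻¹ * r₁⁻¹ with hd
        have hgs : f g * s * (f g)⁻¹ ∈ R₁ := hconjR₁ g hgP s hs
        have hgr₁ : f g * r₁ * (f g)⁻¹ ∈ R₁ := hconjR₁ g hgP r₁ hr₁
        have hdR : d ∈ R₁ := mul_mem hgr₁ (inv_mem hr₁)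
        have hdz : Commute (f z) d := by
          have h1 : Commute (f z) (f g * r₁ * (f g)⁻¹) := by
            have h0 := hzswap g hgP r₁ hr₁
            rw [show f z * r₁ * (f z)⁻¹ = r₁ by rw [← mem_cen.1 hr₁z, mul_inv_cancel_right]] at h0
            exact (mul_inv_eq_iff_eq_mul.1 h0.symm)
          exact h1.mul_right (show Commute r₁ (f z) from mem_cen.1 hr₁z).symm.inv_right
        have hsd : f z * (s * (f g * s * (f g)⁻¹)⁻¹) * (f z)⁻¹ = d * (s * (f g * s * (f g)⁻¹)⁻¹) := by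
          set s' := f g * s * (f g)⁻¹ with hs'
          set t := f g * r₂ * (f g)⁻¹ with ht
          have e3 : f z * s' * (f z)⁻¹ = t * s' := by
            rw [hs', ← hzswap g hgP s hs, e₂, ht]; group
          have hgr₂ : t ∈ R₁ := hconjR₁ g hgP r₂ hr₂R
          have e4 : (f g * r₁ * (f g)⁻¹) * t = r₁ * r₂ := by
            rw [ht, show f g * r₁ * (f g)⁻¹ * (f g * r₂ * (f g)⁻¹) = f g * (r₁ * r₂) * (f g)⁻¹ by group,
              mem_cen.1 hg, mul_inv_cancel_right]
          have e5 : d = r₂ * t⁻¹ := by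
            rw [hd, eq_mul_inv_iff_mul_eq.2 e4]
            calc r₁ * r₂ * t⁻¹ * r₁⁻¹ = r₁ * (r₂ * t⁻¹) * r₁⁻¹ := by group
              _ = (r₂ * t⁻¹) * r₁ * r₁⁻¹ := by
                rw [hRcomm r₁ hr₁.1 (r₂ * t⁻¹) (mul_mem hr₂R.1 (inv_mem hgr₂.1))]
              _ = _ := mul_inv_cancel_right _ _
          calc f z * (s * s'⁻¹) * (f z)⁻¹ = (f z * s * (f z)⁻¹) * (f z * s' * (f z)⁻¹)⁻¹ := by group
            _ = r₂ * s * (t * s')⁻¹ := by rw [e₂, e3]
            _ = r₂ * ((s * s'⁻¹) * t⁻¹) := by group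
            _ = r₂ * (t⁻¹ * (s * s'⁻¹)) := by
              rw [hRcomm (s * s'⁻¹) (mul_mem hs.1 (inv_mem hgs.1)) t⁻¹ (inv_mem hgr₂.1)]
            _ = _ := by rw [e5]; group
        exact mem_cen.2 (mul_inv_eq_iff_eq_mul.1 (mul_inv_eq_one.1
          (hfix _ (mul_mem hs (inv_mem hgs)) d hdR hsd hdz)))
      have hcard : ∀ c ∈ R₁, c ≠ 1 → Nat.card ↥((cen c).comap f ⊓ (P : Subgroup G)) * p ^ a = Nat.card P := by
        intro c hcm hc1
        have h := Subgroup.relIndex_mul_relIndex ⊥ ((cen c).comap f ⊓ (P : Subgroup G)) (P : Subgroup G)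
          bot_le inf_le_right
        rw [Subgroup.relIndex_bot_left, Subgroup.relIndex_bot_left, Subgroup.inf_relIndex_right,
          hstab c hcm hc1] at h
        exact h
      have h13 : S₃ = S₁ := Subgroup.eq_of_le_of_card_ge h31 (Nat.le_of_mul_le_mul_right
        (le_of_eq ((hcard r₁ hr₁ hne).trans (hcard _ (mul_mem hr₁ hr₂R) hr₃).symm)) (pow_pos H.pp.pos a))
      have hz1 : z ∈ S₁ := ⟨mem_cen.2 (mem_cen.1 hr₁z).symm, hzP⟩
      rw [← h13] at hz1
      exact hr₂z (by
        have h1 : Commute (f z) (r₁ * r₂) := mem_cen.1 hz1.1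
        have h2 : Commute (f z) r₁ := (show Commute r₁ (f z) from mem_cen.1 hr₁z).symm
        simpa using h2.inv_right.mul_right h1)
    have hzc : z ∉ Subgroup.center G := fun hzc => hzN (Subgroup.mem_subgroupOf.2
      (Subgroup.mem_centralizer_iff.2 fun c _ => by
        show c * f z = f z * c
        rw [show f z = 1 from (QuotientGroup.eq_one_iff z).2 hzc, mul_one, one_mul]))
    have h1 : Nat.card R₁ ≤ (cen (f z)).relIndex R := by
      have e : (cen (f z)).relIndex R₁ = Nat.card R₁ := by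
        rw [← Subgroup.inf_relIndex_right, inf_comm, hfree, Subgroup.relIndex_bot_left]
      rw [← e]
      exact Subgroup.relIndex_le_of_le_right inf_le_left (relIndex_ne' _ _)
    -- the orbit of `c₀`
    let φ : ↥(P : Subgroup G) ⧸ ((cen c₀).comap f).subgroupOf (P : Subgroup G) →
        ((R₁ : Set (G ⧸ Subgroup.center G)) \ {1} : Set (G ⧸ Subgroup.center G)) :=
      Quotient.lift (fun g => ⟨f g * c₀ * (f g)⁻¹, hconjR₁ g g.2 c₀ hc₀, fun e => hc₀1 (by simpa using e)⟩)
        fun g g' h => by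
          have h' := Subgroup.mem_subgroupOf.1 (QuotientGroup.leftRel_apply.1 h)
          refine Subtype.ext ?_
          show f g * c₀ * (f g)⁻¹ = f g' * c₀ * (f g')⁻¹
          have h2 : f ((g : G)⁻¹ * g') * c₀ = c₀ * f ((g : G)⁻¹ * g') := mem_cen.1 h'
          rw [map_mul, map_inv] at h2
          calc f g * c₀ * (f g)⁻¹ = f g * (c₀ * ((f g)⁻¹ * f g')) * (f g')⁻¹ := by group
            _ = f g * (((f g)⁻¹ * f g') * c₀) * (f g')⁻¹ := by rw [h2]
            _ = _ := by group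
    have hφ : Function.Injective φ := by
      intro g g'
      refine Quotient.inductionOn₂ g g' fun g g' h => Quotient.sound (QuotientGroup.leftRel_apply.2 ?_)
      refine Subgroup.mem_subgroupOf.2 (mem_cen.2 ?_)
      have h' : f g * c₀ * (f g)⁻¹ = f g' * c₀ * (f g')⁻¹ := congrArg Subtype.val h
      show f ((g⁻¹ * g' : P) : G) * c₀ = c₀ * f ((g⁻¹ * g' : P) : G)
      simp only [Subgroup.coe_mul, Subgroup.coe_inv, map_mul, map_inv]
      calc (f g)⁻¹ * f g' * c₀ = (f g)⁻¹ * (f g' * c₀ * (f g')⁻¹) * f g' := by group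
        _ = (f g)⁻¹ * (f g * c₀ * (f g)⁻¹) * f g' := by rw [h']
        _ = _ := by group
    have h2 : p ^ a < Nat.card R₁ := by
      rw [← hstab c₀ hc₀ hc₀1]
      refine lt_of_le_of_lt (Nat.card_le_card_of_injective φ hφ) ?_
      rw [Nat.card_coe_set_eq]
      exact (Set.ncard_sdiff_singleton_lt_of_mem (one_mem R₁) (Set.toFinite _)).trans_eq
        (Nat.card_coe_set_eq _).symm
    exact lt_of_lt_of_le h2 (h1.trans (hbound z kz hzo hzc))

end HP

end Cfsg.Agent.Transfer.FourSizes
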