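import Mathlib
import Cfsg.Agent.Lib.Transfer.FourSizes.Ineq
import Cfsg.Agent.Lib.Transfer.ThreeSizes.Orbit
import Cfsg.Agent.Lib.Transfer.Cores
import Cfsg.Agent.Lib.Grp.HallConverse

/-!
Class sizes `1`, `p^a`, `q^b`, `p^a q^b`: no `p`-element of size `q^b` commutes with a `q`-element of
size `p^a`.
-/

set_option autoImplicit false
set_option maxHeartbeats 1000000

open scoped Pointwise

universe u

namespace Cfsg.Agent.Transfer.FourSizes

open Cfsg Cfsg.Agent Cfsg.Agent.Transfer.ClassDisconnected Cfsg.Agent.Transfer.TwoRegular Subgroup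

variable {G : Type u} [Group G] [Finite G]

/-- An element of order prime to `r` with an `r`-power in a subgroup lies in it. -/
theorem mem_of_pow_mem {N : Subgroup G} {g : G} {r k : ℕ} (hco : (orderOf g).Coprime r) (h : g ^ r ^ k ∈ N) :
    g ∈ N := by
  obtain ⟨l, hl⟩ := exists_pow_eq_self_of_coprime (hco.symm.pow_left k)
  rw [← hl]
  exact N.pow_mem h l

namespace HP

variable {p q a b : ℕ} (H : HP G p q a b)
variable {x v : G} {i j : ℕ} (hxo : orderOf x = p ^ i) (hx : cix x = q ^ b)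
variable (hvo : orderOf v = q ^ j) (hv : cix v = p ^ a) (hc : v ∈ cen x)

include H hxo hx hvo hv hc in
theorem crossing_one (hOq : Cfsg.pCore q G ≤ Subgroup.center G) (hOp : ¬ Cfsg.pCore p G ≤ Subgroup.center G) :
    False := by
  classical
  haveI := Fact.mk H.pp; haveI := Fact.mk H.qq
  set Op := Cfsg.pCore p G with hOpdef
  haveI hOpn : Op.Normal := Grp.pCore_isNormal
  haveI hFn : (Cfsg.fittingSubgroup G).Normal := Grp.fittingSubgroup_isNormal
  have hxc := H.hyp.nc_of_n hx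
  have hvc := H.hyp.symm.nc_of_n hv
  have hoOp : ∀ e ∈ Op, ∃ k, orderOf e = p ^ k := fun e he => by
    obtain ⟨k, hk⟩ := (IsPGroup.iff_orderOf.1 Grp.pCore_isPGroup) ⟨e, he⟩
    exact ⟨k, by rw [← hk, Subgroup.orderOf_mk]⟩
  have hCq : ∀ g : G, g ∈ Subgroup.centralizer (Cfsg.pCore q G : Set G) := fun g =>
    Subgroup.mem_centralizer_iff.2 fun c hc' => (Subgroup.mem_center_iff.1 (hOq hc') g).symm
  have hFq : ∀ (t : G) (k : ℕ), orderOf t = q ^ k → t ∈ Cfsg.fittingSubgroup G → t ∈ Subgroup.center G :=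
    fun t k hto ht => hOq (Grp.mem_pCore_of_mem_fitting ht (IsPGroup.of_card (n := k) (by rw [Nat.card_zpowers, hto])))
  -- noncentral elements of `O_p` have class size `q ^ b`
  have hsz : ∀ e ∈ Op, e ∉ Subgroup.center G → cix e = q ^ b := by
    intro e he hec
    obtain ⟨k, hk⟩ := hoOp e he
    rcases H.size_p hxo hx hvo hv hc hk hec with h | h
    · exact h
    obtain ⟨t, ht, htc, l, hto⟩ := ThreeSizes.Hyp3.exists_mem_of_fac (w := e) hxc hc hvc hvo (by
      rw [h, hx, Nat.factorization_mul (pow_ne_zero _ H.qq.ne_zero) (pow_ne_zero _ H.pp.ne_zero), Finsupp.add_apply,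
        Nat.factorization_eq_zero_of_not_dvd H.symm.p_not_dvd, add_zero])
    have hle := H.hyp.le_of_nm h ht (primary_coprime H.pp H.qq H.ne hk hto)
    have hcent := centralizes_pCore H.ne hto he fun c _ hc' => hle (mem_cen.2 hc')
    have htp : t ∈ Subgroup.centralizer (Op : Set G) :=
      Subgroup.mem_centralizer_iff.2 fun c hc' => mem_cen.1 (hcent hc')
    exact absurd (hFq t l hto (H.mem_fitting htp (hCq t))) htc
  have hsyl : ∀ e ∈ Op, e ∉ Subgroup.center G → ∃ P : Sylow p G, (P : Subgroup G) ≤ cen e ∧ Op ≤ P :=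
    fun e he hec => by
    obtain ⟨P, hP⟩ := exists_sylow_le_centralizer (r := p) (u := e) (hsz e he hec ▸ H.p_not_dvd)
    exact ⟨P, hP, Grp.pCore_le_sylow P⟩
  have habel : ∀ c ∈ Op, ∀ d ∈ Op, c * d = d * c := by
    intro c hc' d hd
    by_cases hdc : d ∈ Subgroup.center G
    · exact Subgroup.mem_center_iff.1 hdc c
    · obtain ⟨P, hP, hle⟩ := hsyl d hd hdc
      exact mem_cen.1 (hP (hle hc'))
  have hCp : ∀ c ∈ Op, c ∈ Subgroup.centralizer (Op : Set G) := fun c hc' =>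
    Subgroup.mem_centralizer_iff.2 fun d hd => habel d hd c hc'
  have hFp : ∀ f ∈ Cfsg.fittingSubgroup G, ∀ c ∈ Op, f * c = c * f := fun f hf c hc' =>
    H.commute_fitting (hCp c hc') (hCq c) hf
  obtain ⟨e, he, hec⟩ := SetLike.not_le_iff_exists.1 hOp
  have hesz := hsz e he hec
  obtain ⟨ke, hko⟩ := hoOp e he
  obtain ⟨P, hP, hOpP⟩ := hsyl e he hec
  -- a `q`-element of size `p ^ a` commuting with every conjugate of `e`
  obtain ⟨t, ht, htc, l, hto⟩ := ThreeSizes.Hyp3.exists_mem_of_fac (w := e) hxc hc hvc hvo (by rw [hesz, hx])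
  obtain ⟨u, l', hu, huo, husz⟩ : ∃ (u : G) (l' : ℕ), u ∈ cen e ∧ orderOf u = q ^ l' ∧ cix u = p ^ a := by
    rcases H.size_q hxo hx hvo hv hc hto htc with h | h
    · exact ⟨t, l, ht, hto, h⟩
    have hle := H.hyp.le_of_nm h (cen_mem_comm ht) (primary_coprime H.qq H.pp H.ne.symm hto hko)
    obtain ⟨g, hg⟩ := exists_conj_commute H.qq hto (y := v) (hv ▸ H.symm.p_not_dvd)
    exact ⟨g * v * g⁻¹, j, hle hg, by rw [orderOf_conj]; exact hvo,
      by rw [Block.CoprimeClasses.cix_conj]; exact hv⟩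
  set W := Subgroup.centralizer (Set.range fun g : G => g * e * g⁻¹) with hW
  have hWmem : ∀ w : G, w ∈ W ↔ ∀ g : G, g * e * g⁻¹ * w = w * (g * e * g⁻¹) := fun w => by
    rw [hW, Subgroup.mem_centralizer_iff, Set.forall_mem_range]
  haveI hWn : W.Normal := ⟨fun w hw g => (hWmem _).2 fun h => by
    have := (hWmem w).1 hw (g⁻¹ * h)
    calc h * e * h⁻¹ * (g * w * g⁻¹) = g * ((g⁻¹ * h) * e * (g⁻¹ * h)⁻¹ * w) * g⁻¹ := by group
      _ = g * (w * ((g⁻¹ * h) * e * (g⁻¹ * h)⁻¹)) * g⁻¹ := by rw [this]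
      _ = _ := by group⟩
  have huW : u ∈ W := (hWmem u).2 fun g => by
    obtain ⟨k, hk, c, hc', rfl⟩ := Grp.HallConv.exists_mul_of_coprime (H := cen e) (K := cen u)
      (show (cix e).Coprime (cix u) by rw [hesz, husz]; exact H.hyp.cop) g
    rw [show k * c * e * (k * c)⁻¹ = k * (c * e) * c⁻¹ * k⁻¹ by group, mem_cen.1 hc',
      show k * (e * c) * c⁻¹ * k⁻¹ = k * e * k⁻¹ by group]
    have h1 : Commute k u := mem_cen.1 hk
    have h2 : Commute e u := (show Commute u e from mem_cen.1 hu).symm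
    exact ((h1.mul_left h2).mul_left h1.inv_left).eq
  have hFW : Cfsg.fittingSubgroup G ≤ W := fun f hf => (hWmem f).2 fun g =>
    (hFp f hf _ (hOpn.conj_mem e he g)).symm
  have huF : u ∉ Cfsg.fittingSubgroup G := fun h => (H.hyp.symm.nc_of_n husz) (hFq u l' huo h)
  -- a chief factor over the Fitting subgroup
  set π := QuotientGroup.mk' (Cfsg.fittingSubgroup G) with hπ
  have hker : π.ker = Cfsg.fittingSubgroup G := QuotientGroup.ker_mk' _
  set Wb := W.map π with hWb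
  haveI : Wb.Normal := hWn.map π (QuotientGroup.mk'_surjective _)
  haveI := H.isSolvable
  have hWb1 : Nat.card Wb ≠ 1 := fun h => huF (by
    rw [← hker, MonoidHom.mem_ker]
    exact Subgroup.mem_bot.1 (Subgroup.eq_bot_of_card_eq Wb h ▸ Subgroup.mem_map_of_mem π huW))
  obtain ⟨r, hr, -, hrne⟩ := ThreeSizes.exists_pCore_ne_bot hWb1
  haveI := Fact.mk hr
  set L := (Cfsg.pCore r Wb).map Wb.subtype with hL
  haveI : L.Normal := ConjAct.normal_of_characteristic_of_normal
  have hLb : L ≠ ⊥ := by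
    rw [hL, Ne, Subgroup.map_eq_bot_iff_of_injective _ Wb.subtype_injective]; exact hrne
  have hLp : IsPGroup r L := Grp.pCore_isPGroup.map _
  set N := L.comap π with hN
  haveI hNn : N.Normal := inferInstance
  have hFN : Cfsg.fittingSubgroup G ≤ N := hker ▸ MonoidHom.ker_le_comap π L
  have hNW : N ≤ W := fun n hn => by
    obtain ⟨w, hw, hwe⟩ := Subgroup.map_subtype_le _ hn
    have h1 : w⁻¹ * n ∈ Cfsg.fittingSubgroup G := by
      rw [← hker, MonoidHom.mem_ker, map_mul, map_inv, hwe, inv_mul_cancel]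
    simpa using mul_mem hw (hFW h1)
  have hNpow : ∀ n ∈ N, ∃ k : ℕ, n ^ r ^ k ∈ Cfsg.fittingSubgroup G := fun n hn => by
    obtain ⟨k, hk⟩ := hLp ⟨π n, hn⟩
    refine ⟨k, hker ▸ MonoidHom.mem_ker.2 ?_⟩
    rw [map_pow]
    exact congrArg Subtype.val hk
  have hNnot : ¬ N ≤ Cfsg.fittingSubgroup G := fun h => hLb (by
    rw [← Subgroup.map_comap_eq_self_of_surjective (QuotientGroup.mk'_surjective _) L, Subgroup.map_eq_bot_iff]
    exact le_of_le_of_eq h hker.symm)
  have hrpq : r = p ∨ r = q := by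
    obtain ⟨y, hy, hy1⟩ := (Subgroup.bot_or_exists_ne_one L).resolve_left hLb
    obtain ⟨k, hk⟩ := (IsPGroup.iff_orderOf.1 hLp) ⟨y, hy⟩
    rw [Subgroup.orderOf_mk] at hk
    exact H.quot_dvd H.center_le_fitting hr hy1 hk
  rcases hrpq with rfl | rfl
  · -- then `N` is nilpotent
    refine hNnot (Grp.le_fittingSubgroup hNn (CN.isNilpotent_of_commute fun s s' hs hs' hss c d ⟨k, hk⟩ ⟨k', hk'⟩ => ?_))
    have key : ∀ (c : N) (s k : ℕ), s.Prime → s ≠ r → orderOf c = s ^ k → (c : G) ∈ Subgroup.center G := by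
      intro c s k hs hsr hk
      rw [← Subgroup.orderOf_coe] at hk
      obtain ⟨m, hm⟩ := hNpow c c.2
      have hcF : (c : G) ∈ Cfsg.fittingSubgroup G := mem_of_pow_mem
        (by rw [hk]; exact Nat.Coprime.pow_left k ((Nat.coprime_primes hs hr).2 hsr)) hm
      by_cases hsq : s = q
      · exact hFq c k (hsq ▸ hk) hcF
      · exact H.central_other hs hsr hsq hk
    by_cases hsr : s = r
    · exact Subtype.ext (Subgroup.mem_center_iff.1 (key d s' k' hs' (hsr ▸ hss.symm) hk') c)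
    · exact (Subtype.ext (Subgroup.mem_center_iff.1 (key c s k hs hsr hk) d) : d * c = c * d).symm
  -- `N` induces a `q`-group on `O_p`
  let _ : CommGroup Op := { (inferInstance : Group Op) with
    mul_comm := fun c d => Subtype.ext (habel c c.2 d d.2) }
  set φ : G →* MulAut Op := MulAut.conjNormal with hφ
  have hφc : ∀ (g : G) (c : Op), ((φ g c : Op) : G) = g * c * g⁻¹ := fun g c => MulAut.conjNormal_apply g c
  have hfix : ∀ (n : G) (c : Op), φ n c = c ↔ n * c = c * n := fun n c => by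
    rw [Subtype.ext_iff, hφc, mul_inv_eq_iff_eq_mul]
  set Γ := N.map φ with hΓ
  have hΓq : IsPGroup r Γ := by
    rintro ⟨γ, n, hn, rfl⟩
    obtain ⟨k, hk⟩ := hNpow n hn
    refine ⟨k, Subtype.ext ?_⟩
    show φ n ^ r ^ k = 1
    rw [← map_pow]
    refine MulEquiv.ext fun c => (hfix _ c).2 (hFp _ hk c c.2)
  haveI : Fintype Γ := Fintype.ofFinite _
  let σ : Op →* Op :=
    { toFun := fun c => ∏ γ : Γ, (γ : MulAut Op) c
      map_one' := by simp
      map_mul' := fun c d => by simp only [map_mul, Finset.prod_mul_distrib] }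
  have hσ : ∀ c : Op, σ c = ∏ γ : Γ, (γ : MulAut Op) c := fun c => rfl
  have hσγ : ∀ (γ₀ : Γ) (c : Op), σ ((γ₀ : MulAut Op) c) = σ c := fun γ₀ c => by
    rw [hσ, hσ]
    exact Fintype.prod_equiv (Equiv.mulRight γ₀) _ _ fun γ => rfl
  have hσg : ∀ (g : G) (c : Op), σ c = 1 → σ (φ g c) = 1 := by
    intro g c hc'
    have hmem : ∀ (g : G), ∀ γ ∈ Γ, φ g⁻¹ * γ * φ g ∈ Γ := by
      rintro g _ ⟨n, hn, rfl⟩
      exact ⟨g⁻¹ * n * g, by simpa using hNn.conj_mem n hn g⁻¹, by rw [map_mul, map_mul]⟩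
    let E : Γ ≃ Γ :=
      { toFun := fun γ => ⟨φ g⁻¹ * γ * φ g, hmem g γ γ.2⟩
        invFun := fun γ => ⟨φ g * γ * φ g⁻¹, by simpa using hmem g⁻¹ γ γ.2⟩
        left_inv := fun γ => Subtype.ext (by simp [mul_assoc])
        right_inv := fun γ => Subtype.ext (by simp [mul_assoc]) }
    calc σ (φ g c) = ∏ γ : Γ, φ g ((E γ : MulAut Op) c) := Finset.prod_congr rfl fun γ _ => by
          show (γ : MulAut Op) (φ g c) = φ g ((φ g⁻¹ * γ * φ g : MulAut Op) c)
          rw [MulAut.mul_apply, MulAut.mul_apply, map_inv, MulAut.apply_inv_self]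
      _ = φ g (∏ γ : Γ, (E γ : MulAut Op) c) := (map_prod _ _ _).symm
      _ = φ g (σ c) := by rw [E.prod_comp (fun γ : Γ => (γ : MulAut Op) c), hσ]
      _ = 1 := by rw [hc', map_one]
  have hfree : ∀ c : Op, σ c = 1 → (∀ n ∈ N, n * c = c * n) → c = 1 := by
    intro c hc' hn
    have h1 : σ c = c ^ Nat.card Γ := by
      rw [hσ, Finset.prod_congr rfl (fun γ _ => (?_ : ((γ : Γ) : MulAut Op) c = c)), Finset.prod_const,
        Finset.card_univ, Nat.card_eq_fintype_card]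
      obtain ⟨n, hn', hγ⟩ := γ.2
      rw [← hγ]
      exact (hfix n c).2 (hn n hn')
    obtain ⟨k, hk⟩ := (IsPGroup.iff_orderOf.1 Grp.pCore_isPGroup) c
    obtain ⟨m, hm⟩ := IsPGroup.iff_card.1 hΓq
    exact orderOf_eq_one_iff.1 (Nat.eq_one_of_dvd_coprimes
      (Nat.Coprime.pow k m ((Nat.coprime_primes H.pp hr).2 H.ne)) hk.dvd
      (orderOf_dvd_of_pow_eq_one (hm ▸ h1 ▸ hc')))
  set M := σ.ker.map Op.subtype with hM
  have hMOp : M ≤ Op := Subgroup.map_subtype_le _
  haveI hMn : M.Normal := ⟨by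
    rintro _ ⟨c, hc', rfl⟩ g
    exact ⟨φ g c, hσg g c hc', hφc g c⟩⟩
  have hM1 : M ≠ ⊥ := by
    intro h
    refine hNnot fun n hn => H.mem_fitting (Subgroup.mem_centralizer_iff.2 fun c hc' => ?_) (hCq n)
    have h1 : φ n ⟨c, hc'⟩ * (⟨c, hc'⟩ : Op)⁻¹ ∈ σ.ker := by
      rw [MonoidHom.mem_ker, map_mul, map_inv,
        show σ (φ n ⟨c, hc'⟩) = σ ⟨c, hc'⟩ from hσγ ⟨φ n, n, hn, rfl⟩ _, mul_inv_cancel]
    have h2 : σ.ker = ⊥ := (Subgroup.map_eq_bot_iff_of_injective _ Op.subtype_injective).1 h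
    rw [h2, Subgroup.mem_bot, mul_inv_eq_one] at h1
    exact ((hfix n ⟨c, hc'⟩).1 h1).symm
  haveI : Group.IsNilpotent P := P.isPGroup'.isNilpotent
  have hMP : M.subgroupOf (P : Subgroup G) ≠ ⊥ := by
    rw [Ne, Subgroup.subgroupOf_eq_bot, disjoint_iff, inf_eq_left.2 (hMOp.trans hOpP)]
    exact hM1
  obtain ⟨⟨w, hwP⟩, ⟨hwM, hwZ⟩, hw1⟩ :=
    (Subgroup.bot_or_exists_ne_one _).resolve_left (Grp.inf_center_ne_bot (M.subgroupOf (P : Subgroup G)) hMP)
  have hwM' : w ∈ M := hwM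
  have hw1' : w ≠ 1 := fun h => hw1 (Subtype.ext h)
  have hMfree : ∀ d ∈ M, (∀ n ∈ N, n * d = d * n) → d = 1 := by
    rintro _ ⟨d, hd, rfl⟩ hn
    exact (congrArg Subtype.val (hfree d hd hn)).trans rfl
  have hNe : ∀ n ∈ N, ∀ g : G, Commute n (g * e * g⁻¹) := fun n hn g => ((hWmem n).1 (hNW hn) g).symm
  have hNe1 : ∀ n ∈ N, Commute n e := fun n hn => by simpa using hNe n hn 1
  have hwnc : w ∉ Subgroup.center G := fun h => hw1' (hMfree w hwM' fun n _ => Subgroup.mem_center_iff.1 h n)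
  have hewnc : e * w ∉ Subgroup.center G := fun h => hw1' (hMfree w hwM' fun n hn => by
    have h1 : Commute n (e * w) := Subgroup.mem_center_iff.1 h n
    have h2 := (hNe1 n hn).inv_right.mul_right h1
    rwa [inv_mul_cancel_left] at h2)
  have hewOp : e * w ∈ Op := mul_mem he (hMOp hwM')
  have hle : cen (e * w) ≤ cen e ⊓ cen w := by
    intro g hg
    set e' := g * e * g⁻¹ with he'
    set w' := g * w * g⁻¹ with hw'
    have hw'M : w' ∈ M := hMn.conj_mem w hwM' g
    have heq : e' * w' = e * w := by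
      rw [he', hw', show g * e * g⁻¹ * (g * w * g⁻¹) = g * (e * w) * g⁻¹ by group, mem_cen.1 hg,
        mul_inv_cancel_right]
    have hd : w * w'⁻¹ = e⁻¹ * e' := by
      rw [eq_inv_mul_iff_mul_eq, ← mul_assoc, ← heq, mul_inv_cancel_right]
    have hww : w' = w := ((mul_inv_eq_one.1 (hMfree _ (mul_mem hwM' (inv_mem hw'M)) fun n hn => by
      rw [hd]
      exact ((hNe1 n hn).inv_right.mul_right (hNe n hn g)).eq))).symm
    rw [hww] at heq
    refine ⟨mem_cen.2 ?_, mem_cen.2 ?_⟩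
    · exact mul_inv_eq_iff_eq_mul.1 (mul_right_cancel heq)
    · exact mul_inv_eq_iff_eq_mul.1 hww
  have hrel : cen e ≤ cen (e * w) := by
    have hle' := hle.trans inf_le_left
    refine Subgroup.relIndex_eq_one.1 (Nat.eq_of_mul_eq_mul_right (cix_pos e) ?_)
    show (cen (e * w)).relIndex (cen e) * (cen e).index = 1 * cix e
    rw [Subgroup.relIndex_mul_index hle', one_mul]
    exact (hsz _ hewOp hewnc).trans hesz.symm
  exact hw1' (hMfree w hwM' fun n hn =>
    mem_cen.1 ((hrel.trans (hle.trans inf_le_right)) (mem_cen.2 (hNe1 n hn))))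

include H hxo hx hvo hv hc in
theorem crossing_false : False := by
  classical
  haveI := Fact.mk H.pp; haveI := Fact.mk H.qq
  by_cases hq' : Cfsg.pCore q G ≤ Subgroup.center G <;> by_cases hp' : Cfsg.pCore p G ≤ Subgroup.center G
  · refine H.hyp.nc_of_n hx (hp' (Grp.mem_pCore_of_mem_fitting (H.mem_fitting ?_ ?_)
      (IsPGroup.of_card (n := i) (by rw [Nat.card_zpowers, hxo]))))
    · exact Subgroup.mem_centralizer_iff.2 fun c hc' => (Subgroup.mem_center_iff.1 (hp' hc') x).symm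
    · exact Subgroup.mem_centralizer_iff.2 fun c hc' => (Subgroup.mem_center_iff.1 (hq' hc') x).symm
  · exact H.crossing_one hxo hx hvo hv hc hq' hp'
  · exact H.symm.crossing_one hvo hv hxo hx (cen_mem_comm hc) hp' hq'
  · exact lt_irrefl _ ((H.pow_lt_of_core hxo hx hvo hv hc hq').trans
      (H.symm.pow_lt_of_core hvo hv hxo hx (cen_mem_comm hc) hp'))

end HP

end Cfsg.Agent.Transfer.FourSizes
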